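import Mathlib
import Cfsg.Agent.LThreeFi24.Twin

/-!
# Small orbits of `p`-groups, and sets of pairwise noncommuting 3-transpositions (helper573)
-/

set_option autoImplicit false

namespace Cfsg.Agent.H573.Hall

open Subgroup

universe u

/-- a small orbit of a `p`-group -/
theorem exists_small {T : Type*} [Group T] [Finite T] {X : Type*} [MulAction T X] [Finite X] {p k : ℕ}
    [hp : Fact p.Prime] (hT : IsPGroup p T) (h : ¬ p ^ (k + 1) ∣ Nat.card X) :
    ∃ x : X, Nat.card T ∣ Nat.card (MulAction.stabilizer T x) * p ^ k := by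
  classical
  by_contra hno
  push Not at hno
  apply h
  have hsum := MulAction.selfEquivSigmaOrbits T X
  rw [Nat.card_congr hsum]
  have hfin : Fintype X := Fintype.ofFinite _
  have : Fintype (Quotient (MulAction.orbitRel T X)) := Fintype.ofFinite _
  rw [Nat.card_sigma]
  refine Finset.dvd_sum fun q _ => ?_
  have horb : ∀ y : X, p ^ (k + 1) ∣ Nat.card (MulAction.orbit T y) := by
    intro y
    have h1 := (MulAction.stabilizer T y).card_mul_index
    rw [MulAction.index_stabilizer, ← Nat.card_coe_set_eq] at h1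
    obtain ⟨n, hn⟩ := hT.exists_card_eq
    have h3 : Nat.card (MulAction.orbit T y) ∣ p ^ n := by
      rw [← hn]
      exact Dvd.intro_left _ h1
    obtain ⟨j, hj, hj'⟩ := (Nat.dvd_prime_pow hp.out).1 h3
    rw [hj']
    apply pow_dvd_pow
    by_contra hlt
    apply hno y
    have h8 : Nat.card T = Nat.card (MulAction.stabilizer T y) * p ^ j := by
      rw [← hj', h1]
    rw [h8]
    exact Nat.mul_dvd_mul_left _ (pow_dvd_pow p (by omega))
  exact horb _

/-- a `p`-subgroup meets a conjugate of a subgroup whose index has small `p`-part in a big subgroup -/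
theorem exists_conj_inf {F : Type*} [Group F] [Finite F] {p k : ℕ} [hp : Fact p.Prime] {T : Subgroup F}
    (hT : IsPGroup p T) (H : Subgroup F) (h : ¬ p ^ (k + 1) ∣ H.index) :
    ∃ g : F, ∃ T1 : Subgroup F, T1 ≤ T ∧ (∀ t ∈ T1, g⁻¹ * t * g ∈ H) ∧ Nat.card T ∣ Nat.card T1 * p ^ k := by
  obtain ⟨x, hx⟩ := exists_small (T := T) (X := F ⧸ H) hT (k := k) h
  obtain ⟨g, rfl⟩ := QuotientGroup.mk_surjective x
  refine ⟨g, (MulAction.stabilizer T ((g : F) : F ⧸ H)).map T.subtype, ?_, ?_, ?_⟩
  · rintro _ ⟨t, -, rfl⟩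
    exact t.2
  · rintro _ ⟨t, ht, rfl⟩
    have h1 : (((t : F) * g : F) : F ⧸ H) = ((g : F) : F ⧸ H) := ht
    rw [QuotientGroup.eq] at h1
    have h2 := H.inv_mem h1
    have h3 : ((↑t * g)⁻¹ * g)⁻¹ = g⁻¹ * (t : F) * g := by group
    rw [h3] at h2
    exact h2
  · rw [card_map_of_injective T.subtype_injective]
    exact hx

/-- an element of order prime to the index lies in a conjugate -/
theorem exists_conj_mem_of_index {F : Type*} [Group F] [Finite F] {r : ℕ} (hr : r.Prime) {y : F} (hy : orderOf y = r)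
    (H : Subgroup F) (h : ¬ r ∣ H.index) : ∃ g : F, g⁻¹ * y * g ∈ H := by
  have : Fact r.Prime := ⟨hr⟩
  obtain ⟨g, T1, h1, h2, h3⟩ := exists_conj_inf (p := r) (k := 0) (T := zpowers y)
    (IsPGroup.of_card (n := 1) (by rw [Nat.card_zpowers, hy, pow_one])) H (by rwa [zero_add, pow_one])
  refine ⟨g, h2 y ?_⟩
  rw [pow_zero, mul_one] at h3
  have h4 : T1 = zpowers y := eq_of_le_of_card_ge h1 (Nat.le_of_dvd Nat.card_pos h3)
  rw [h4]
  exact mem_zpowers y

/-- **a conjugation-closed set of pairwise noncommuting 3-transpositions**: an element of prime order `r ≠ 3` commutes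
with one of them -/
theorem exists_comm_of_htset {X : Type u} [Group X] [Finite X] {D : Set X} (h : Cfsg.Agent.Fischer.Hall.HTSet D)
    {d : X} (hd : d ∈ D) {r : ℕ} (hr : r.Prime) (hr3 : r ≠ 3) {y : X} (hy : orderOf y = r) :
    ∃ e ∈ D, y * e = e * y := by
  let N : Subgroup X := closure {g : X | ∃ d ∈ D, ∃ e ∈ D, g = d * e}
  have hN : IsPGroup 3 N := Cfsg.Agent.Fischer.Hall.isPGroup_closure_products h
  let H : Subgroup X := centralizer {d}
  have hdsq := h.sq d hd
  have hdi : d⁻¹ = d := inv_eq_of_mul_eq_one_left hdsq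
  -- the index of `H` is a power of 3
  have h1 : ∀ x : X, ∃ n ∈ N, n⁻¹ * x ∈ H := by
    intro x
    let e := x * d * x⁻¹
    have he : e ∈ D := h.cj x d hd
    have hei : e⁻¹ = e := inv_eq_of_mul_eq_one_left (h.sq e he)
    have hb := h.br d hd e he
    refine ⟨d * e, subset_closure ⟨d, hd, e, he, rfl⟩, ?_⟩
    rw [mem_centralizer_singleton_iff]
    -- `(d e) d (d e)⁻¹ = d e d e d = e`
    have h2 : (d * e) * d * (d * e)⁻¹ = e := by
      rw [mul_inv_rev, hdi, hei]
      calc d * e * d * (e * d) = (d * e * d) * e * d := by group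
        _ = e * d * e * e * d := by rw [hb]
        _ = e * d * (e * e) * d := by group
        _ = e * (d * d) := by rw [h.sq e he]; group
        _ = e := by rw [hdsq, mul_one]
    have h3 : d = (d * e)⁻¹ * e * (d * e) := by
      rw [← h2]
      conv_rhs => rw [h2]
      have : (d * e)⁻¹ * ((d * e) * d * (d * e)⁻¹) * (d * e) = d := by group
      rw [h2] at this
      exact this.symm
    have h4 : x * d = e * x := by
      change x * d = x * d * x⁻¹ * x
      group
    calc (d * e)⁻¹ * x * d = (d * e)⁻¹ * (x * d) := by group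
      _ = (d * e)⁻¹ * e * x := by rw [h4]; group
      _ = ((d * e)⁻¹ * e * (d * e)) * ((d * e)⁻¹ * x) := by group
      _ = d * ((d * e)⁻¹ * x) := by rw [← h3]
  have h2 : H.index ∣ Nat.card N := by
    have h3 : Function.Surjective (fun n : N => (((n : X)) : X ⧸ H)) := by
      intro q
      obtain ⟨x, rfl⟩ := QuotientGroup.mk_surjective q
      obtain ⟨n, hn, hn'⟩ := h1 x
      exact ⟨⟨n, hn⟩, QuotientGroup.eq.2 hn'⟩
    have h4 : H.index = H.relIndex N := by
      unfold relIndex index
      refine (Nat.card_congr (Equiv.ofBijective (fun q : ↥N ⧸ H.subgroupOf N =>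
        Quotient.map' (s₁ := QuotientGroup.leftRel (H.subgroupOf N)) (s₂ := QuotientGroup.leftRel H) (fun n : ↥N => (n : X)) (by
          intro a b hab
          rw [QuotientGroup.leftRel_apply] at hab ⊢
          exact hab) q) ⟨?_, ?_⟩)).symm
      · intro a b hab
        induction a using QuotientGroup.induction_on with | _ a => ?_
        induction b using QuotientGroup.induction_on with | _ b => ?_
        have h5 : (((a : X)) : X ⧸ H) = ((b : X) : X ⧸ H) := hab
        rw [QuotientGroup.eq] at h5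
        exact QuotientGroup.eq.2 h5
      · intro q
        obtain ⟨n, hn⟩ := h3 q
        exact ⟨((n : ↥N) : ↥N ⧸ H.subgroupOf N), hn⟩
    rw [h4]
    exact relIndex_dvd_card _ _
  have h3 : ¬ r ∣ H.index := by
    intro h4
    have : Fact (Nat.Prime 3) := ⟨Nat.prime_three⟩
    obtain ⟨n, hn⟩ := hN.exists_card_eq
    have h5 := h4.trans h2
    rw [hn] at h5
    exact hr3 ((Nat.prime_dvd_prime_iff_eq hr Nat.prime_three).1 (hr.dvd_of_dvd_pow h5))
  obtain ⟨g, hg⟩ := exists_conj_mem_of_index hr hy H h3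
  refine ⟨g * d * g⁻¹, h.cj g d hd, ?_⟩
  have h4 := mem_centralizer_singleton_iff.1 hg
  calc y * (g * d * g⁻¹) = g * (g⁻¹ * y * g * d) * g⁻¹ := by group
    _ = g * (d * (g⁻¹ * y * g)) * g⁻¹ := by rw [h4]
    _ = (g * d * g⁻¹) * y := by group

end Cfsg.Agent.H573.Hall
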