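import Cfsg.Agent.H573.Hall.FiTwentyThree
import Cfsg.Agent.H573.Hall.Orb
import Cfsg.Agent.LThreeFi24.Row24
import Cfsg.Agent.CpAutFiSeven.None
import Cfsg.Agent.H243.Fi23Kill
import Cfsg.Agent.S1698

/-!
# Hall subgroups of odd order of `Fi24'` (helper573)

* `exists_pull` : the centralizer in `Fi24'` of a transposition embeds in `Fi23`
* `card_two`, `card_three` : centralizers of two commuting transpositions, and of three generating `2 x S_3`
* `exists_cent` : an element `y` of prime order `r ≠ 3` centralizing a 3-group `T` of order at least `3 ^ 13` commutes with a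
  transposition centralized by a subgroup of `T` of index at most 27
-/

set_option autoImplicit false
set_option maxRecDepth 100000

namespace Cfsg.Agent.H573.Hall.F24

open Subgroup Cfsg Cfsg.Agent.H171.Odd Cfsg.Agent.H553.OddHall
open Cfsg.Agent.Fischer.Fi24Rep (gen)
open Cfsg.Agent.Fischer.Fi24Final (sgn)
open Cfsg.Agent.R08.FiTwentyFour (L facts)
open Cfsg.Agent.LThreeFi23 (Com com_iff T_act exists_rep act_lt)
open Cfsg.Agent.CpAutFiSeven (Tri)
open Cfsg.Spor (Fi24)

universe u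

theorem fin : Finite Fi24 := R08.FiTwentyFour.finite_Fi24

/-- the intersection of `Fi24'` with the centralizer of `d` -/
abbrev Cd (d : Fi24) : Subgroup Fi24 := centralizer ({d} : Set Fi24) ⊓ commutator Fi24

theorem mem_Cd {d c : Fi24} : c ∈ Cd d ↔ c * d = d * c ∧ c ∈ commutator Fi24 := by
  rw [mem_inf, mem_centralizer_singleton_iff]

/-- the centralizer in `Fi24'` of a transposition embeds in `Fi23` -/
theorem exists_pull {d : Fi24} (hd : d ∈ L) : ∃ (ψ : ↥(Cd d) →* Spor.Fi23) (P : Fi24 → ℕ), Function.Injective ψ ∧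
    (∀ e ∈ L, e ≠ d → e * d = d * e → P e < 31671 ∧
      ∀ c : ↥(Cd d), (c : Fi24) * e = e * c ↔ ψ c * LThreeFi23.T (P e) = LThreeFi23.T (P e) * ψ c) ∧
    (∀ e ∈ L, ∀ e' ∈ L, e ≠ d → e' ≠ d → e * d = d * e → e' * d = d * e' → (Com (P e) (P e') ↔ e * e' = e' * e)) := by
  classical
  obtain ⟨g, hg⟩ := isConj_iff.1 (show IsConj (gen .l) d from hd)
  have hll : gen .l * gen .l = (1 : Fi24) := Fischer.Fi24Final.gen_sq .l
  have hphi := facts.phi_injective
  have hcomm : ∀ k, facts.phi k * gen .l = gen .l * facts.phi k := fun k => facts.phi_comm k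
  -- the map
  have h1 : ∀ c : ↥(Cd d), ∃ k, facts.phi k = g⁻¹ * (c : Fi24) * g := by
    intro c
    obtain ⟨hc1, hc2⟩ := mem_Cd.1 c.2
    refine (facts.mem_range_iff _).2 ?_
    constructor
    · have hc3 : (c : Fi24) * (g * gen .l * g⁻¹) = (g * gen .l * g⁻¹) * (c : Fi24) := by rw [hg]; exact hc1
      change g⁻¹ * (c : Fi24) * g * gen .l = gen .l * (g⁻¹ * (c : Fi24) * g)
      calc g⁻¹ * (c : Fi24) * g * gen .l = g⁻¹ * ((c : Fi24) * (g * gen .l * g⁻¹)) * g := by group
        _ = gen .l * (g⁻¹ * (c : Fi24) * g) := by rw [hc3]; group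
    · have h2 : sgn (c : Fi24) = 1 := R08.FiTwentyFour.mem_commutator_iff.1 hc2
      rw [map_mul, map_mul, h2, mul_one, map_inv, inv_mul_cancel]
  choose f hf using h1
  let ψ : ↥(Cd d) →* Spor.Fi23 := MonoidHom.mk' f (by
    intro a b
    apply hphi
    rw [map_mul, hf, hf, hf, coe_mul]
    group)
  have hψ : ∀ c, facts.phi (ψ c) = g⁻¹ * (c : Fi24) * g := hf
  -- the points
  have h2 : ∀ e : Fi24, e ∈ L → e ≠ d → e * d = d * e →
      ∃ p < 31671, g⁻¹ * e * g = gen .l * facts.phi (LThreeFi23.T p) := by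
    intro e he hed hc
    have h3 : g⁻¹ * e * g ∈ L ∧ g⁻¹ * e * g ≠ gen .l ∧ (g⁻¹ * e * g) * gen .l = gen .l * (g⁻¹ * e * g) := by
      refine ⟨?_, ?_, ?_⟩
      · have := R08.FiTwentyFour.conj he g⁻¹
        rwa [inv_inv] at this
      · intro h
        apply hed
        rw [← hg, ← h]; group
      · rw [← hg] at hc
        calc g⁻¹ * e * g * gen .l = g⁻¹ * (e * (g * gen .l * g⁻¹)) * g := by group
          _ = gen .l * (g⁻¹ * e * g) := by rw [hc]; group
    obtain ⟨d1, hd1, h4⟩ := facts.commuting_iff.1 h3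
    obtain ⟨k, hk⟩ := isConj_iff.1 (show IsConj (LThreeFi23.el .z) d1 from hd1)
    refine ⟨Fischer.Fi23Hom.rho k 0, act_lt k (by norm_num), ?_⟩
    rw [h4, T_act k (by norm_num), LThreeFi23.T0]
    exact congrArg (fun x => gen .l * facts.phi x) hk.symm
  let P : Fi24 → ℕ := fun e => if h : e ∈ L ∧ e ≠ d ∧ e * d = d * e then (h2 e h.1 h.2.1 h.2.2).choose else 0
  have hP : ∀ e : Fi24, e ∈ L → e ≠ d → e * d = d * e →
      P e < 31671 ∧ g⁻¹ * e * g = gen .l * facts.phi (LThreeFi23.T (P e)) := by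
    intro e he hed hc
    have h5 : P e = (h2 e he hed hc).choose := dif_pos ⟨he, hed, hc⟩
    rw [h5]
    exact (h2 e he hed hc).choose_spec
  refine ⟨ψ, P, ?_, ?_, ?_⟩
  · intro a b hab
    have h3 := congrArg facts.phi hab
    rw [hψ, hψ] at h3
    exact Subtype.ext (mul_left_cancel (mul_right_cancel h3))
  · intro e he hed hc
    obtain ⟨h3, h4⟩ := hP e he hed hc
    refine ⟨h3, fun c => ?_⟩
    have h5 : (c : Fi24) * e = e * c ↔ (g⁻¹ * (c : Fi24) * g) * (g⁻¹ * e * g) = (g⁻¹ * e * g) * (g⁻¹ * (c : Fi24) * g) := by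
      have e1 : (g⁻¹ * (c : Fi24) * g) * (g⁻¹ * e * g) = g⁻¹ * ((c : Fi24) * e) * g := by group
      have e2 : (g⁻¹ * e * g) * (g⁻¹ * (c : Fi24) * g) = g⁻¹ * (e * c) * g := by group
      rw [e1, e2]
      constructor
      · intro h; rw [h]
      · intro h; exact mul_left_cancel (mul_right_cancel h)
    rw [h5, h4, ← hψ]
    have h6 := hcomm (ψ c)
    constructor
    · intro h
      apply hphi
      rw [map_mul, map_mul]
      have h7 : gen .l * (facts.phi (ψ c) * facts.phi (LThreeFi23.T (P e))) =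
          gen .l * (facts.phi (LThreeFi23.T (P e)) * facts.phi (ψ c)) := by
        calc gen .l * (facts.phi (ψ c) * facts.phi (LThreeFi23.T (P e)))
            = facts.phi (ψ c) * (gen .l * facts.phi (LThreeFi23.T (P e))) := by rw [← mul_assoc, ← h6, mul_assoc]
          _ = _ := by rw [h, mul_assoc]
      exact mul_left_cancel h7
    · intro h
      have h7 := congrArg facts.phi h
      rw [map_mul, map_mul] at h7
      calc facts.phi (ψ c) * (gen .l * facts.phi (LThreeFi23.T (P e)))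
          = gen .l * (facts.phi (ψ c) * facts.phi (LThreeFi23.T (P e))) := by rw [← mul_assoc, h6, mul_assoc]
        _ = _ := by rw [h7, mul_assoc]
  · intro e he e' he' hed hed' hc hc'
    obtain ⟨h3, h4⟩ := hP e he hed hc
    obtain ⟨h3', h4'⟩ := hP e' he' hed' hc'
    rw [com_iff h3']
    have h5 : e * e' = e' * e ↔ (g⁻¹ * e * g) * (g⁻¹ * e' * g) = (g⁻¹ * e' * g) * (g⁻¹ * e * g) := by
      have e1 : (g⁻¹ * e * g) * (g⁻¹ * e' * g) = g⁻¹ * (e * e') * g := by group
      have e2 : (g⁻¹ * e' * g) * (g⁻¹ * e * g) = g⁻¹ * (e' * e) * g := by group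
      rw [e1, e2]
      constructor
      · intro h; rw [h]
      · intro h; exact mul_left_cancel (mul_right_cancel h)
    rw [h5, h4, h4']
    have key : ∀ a b : Spor.Fi23, gen .l * facts.phi a * (gen .l * facts.phi b) = facts.phi (a * b) := by
      intro a b
      calc gen .l * facts.phi a * (gen .l * facts.phi b) = gen .l * (facts.phi a * gen .l) * facts.phi b := by group
        _ = gen .l * (gen .l * facts.phi a) * facts.phi b := by rw [hcomm a]
        _ = (gen .l * gen .l) * (facts.phi a * facts.phi b) := by group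
        _ = facts.phi (a * b) := by rw [hll, one_mul, map_mul]
    rw [key, key, hphi.eq_iff]

/-- the centralizer in `Fi24'` of two commuting transpositions -/
theorem card_two {d e : Fi24} (hd : d ∈ L) (he : e ∈ L) (hed : e ≠ d) (hc : e * d = d * e) {K : Subgroup Fi24}
    (hK : K ≤ commutator Fi24) (h1 : ∀ k ∈ K, k * d = d * k) (h2 : ∀ k ∈ K, k * e = e * k) :
    Nat.card K ∣ 129123503308800 := by
  obtain ⟨ψ, P, hψ, hP, -⟩ := exists_pull hd
  obtain ⟨hp, hc'⟩ := hP e he hed hc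
  rw [← H243.Fi23Kill.card_Sp hp]
  let f : ↥K →* ↥(Cd d) := inclusion (fun k hk => mem_Cd.2 ⟨h1 k hk, hK hk⟩)
  let φ : ↥K →* ↥(H243.Fi23Kill.Sp (P e)) := (ψ.comp f).codRestrict _ (fun k => by
    change Fischer.Fi23Hom.rho (ψ (f k)) (P e) = P e
    rw [LThreeFi23.fix_iff _ hp]
    exact (hc' (f k)).1 (h2 k k.2))
  refine card_dvd_of_injective φ ?_
  intro a b hab
  have h3 : ψ (f a) = ψ (f b) := congrArg Subtype.val hab
  exact inclusion_injective _ (hψ h3)

/-- the centralizer in `Fi24'` of three transpositions generating `2 x S_3` -/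
theorem card_three {d e e' : Fi24} (hd : d ∈ L) (he : e ∈ L) (he' : e' ∈ L) (hc : e * d = d * e) (hc' : e' * d = d * e')
    (hn : e * e' ≠ e' * e) {K : Subgroup Fi24}
    (hK : K ≤ commutator Fi24) (h1 : ∀ k ∈ K, k * d = d * k) (h2 : ∀ k ∈ K, k * e = e * k)
    (h3 : ∀ k ∈ K, k * e' = e' * k) : Nat.card K ∣ 4585351680 := by
  have hed : e ≠ d := by rintro rfl; exact hn hc'.symm
  have hed' : e' ≠ d := by rintro rfl; exact hn hc
  obtain ⟨ψ, P, hψ, hP, hP'⟩ := exists_pull hd
  obtain ⟨hp, hq⟩ := hP e he hed hc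
  obtain ⟨hp', hq'⟩ := hP e' he' hed' hc'
  let f : ↥K →* ↥(Cd d) := inclusion (fun k hk => mem_Cd.2 ⟨h1 k hk, hK hk⟩)
  refine F23.card_pair hp hp' (fun h => hn ((hP' e he e' he' hed hed' hc hc').1 h)) (ψ.comp f)
    (hψ.comp (inclusion_injective _)) (fun k => (hq (f k)).1 (h2 k k.2)) (fun k => (hq' (f k)).1 (h3 k k.2))

/-- an element of prime order different from 3 centralizing a big 3-group -/
theorem exists_cent {T : Subgroup Fi24} (hT : IsPGroup 3 T) (h13 : 3 ^ 13 ∣ Nat.card T) {y : Fi24} {r : ℕ} (hr : r.Prime)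
    (hr3 : r ≠ 3) (hy : orderOf y = r) (hyT : ∀ t ∈ T, t * y = y * t) :
    ∃ d ∈ L, y * d = d * y ∧ ∃ T1 : Subgroup Fi24, T1 ≤ T ∧ (∀ t ∈ T1, t * d = d * t) ∧
      Nat.card T ∣ Nat.card T1 * 3 ^ 3 := by
  have hF := fin
  have h3 : Fact (Nat.Prime 3) := ⟨Nat.prime_three⟩
  have hTF : T ≤ commutator Fi24 := by
    intro t ht
    obtain ⟨k, hk⟩ := hT ⟨t, ht⟩
    have hk' : t ^ 3 ^ k = 1 := congrArg Subtype.val hk
    rw [R08.FiTwentyFour.mem_commutator_iff]
    rcases Int.units_eq_one_or (sgn t) with h | h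
    · exact h
    · have h1 : sgn t ^ 3 ^ k = 1 := by rw [← map_pow, hk', map_one]
      rw [h, Odd.neg_one_pow (Odd.pow (by decide))] at h1
      exact absurd h1 (by decide)
  -- the stabilizer of `l`
  have hidx : (centralizer ({gen .l} : Set Fi24)).index = 306936 := by
    have h4 : (centralizer ({gen .l} : Set Fi24)) = Fischer.Fi24RepOrb.H := by
      ext g
      rw [mem_centralizer_singleton_iff]
      exact (facts.mem_H_iff g).symm
    rw [h4]
    exact (Fischer.Fi24RepOrb.index_and_suborbits facts.hub facts.hne).1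
  obtain ⟨g, T1, hT1, h1, h2⟩ := exists_conj_inf (p := 3) (k := 3) hT (centralizer ({gen .l} : Set Fi24)) (by
    rw [hidx]; norm_num)
  let d0 : Fi24 := g * gen .l * g⁻¹
  have hd0 : d0 ∈ L := R08.FiTwentyFour.conj (R08.FiTwentyFour.gen_mem_L .l) g
  have hT1d : ∀ t ∈ T1, t * d0 = d0 * t := by
    intro t ht
    have h4 := mem_centralizer_singleton_iff.1 (h1 t ht)
    calc t * (g * gen .l * g⁻¹) = g * ((g⁻¹ * t * g) * gen .l) * g⁻¹ := by group
      _ = g * (gen .l * (g⁻¹ * t * g)) * g⁻¹ := by rw [h4]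
      _ = (g * gen .l * g⁻¹) * t := by group
  have hT10 : 3 ^ 10 ∣ Nat.card T1 := by
    have h4 : 3 ^ 10 * 3 ^ 3 ∣ Nat.card T1 * 3 ^ 3 := by
      rw [← pow_add]
      exact h13.trans h2
    exact Nat.dvd_of_mul_dvd_mul_right (by norm_num) h4
  -- the centralizer of `T1`
  let X : Subgroup Fi24 := centralizer (T1 : Set Fi24)
  let D : Set ↥X := {x | (x : Fi24) ∈ L}
  have hXT : ∀ x : ↥X, ∀ t ∈ T1, t * (x : Fi24) = (x : Fi24) * t := fun x t ht => mem_centralizer_iff.1 x.2 t ht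
  have hnc : ∀ a ∈ D, ∀ b ∈ D, (a : Fi24) * b = b * a → a = b := by
    intro a ha b hb hab
    by_contra hne
    have h4 := card_two (d := (b : Fi24)) (e := a) hb ha (fun h => hne (Subtype.ext h)) hab (K := T1) (hT1.trans hTF)
      (fun t ht => hXT b t ht) (fun t ht => hXT a t ht)
    have h5 := hT10.trans h4
    norm_num at h5
  have hD : Fischer.Hall.HTSet D := by
    refine ⟨?_, ?_, ?_⟩
    · intro a ha
      exact Subtype.ext (R08.FiTwentyFour.sq ha)
    · intro a ha b hb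
      rcases R08.FiTwentyFour.three ha hb with h | h
      · rw [hnc a ha b hb h]
      · exact Subtype.ext h
    · intro g a ha
      exact R08.FiTwentyFour.conj ha (g : Fi24)
  have hd0X : d0 ∈ X := mem_centralizer_iff.2 hT1d
  have hyX : y ∈ X := mem_centralizer_iff.2 fun t ht => hyT t (hT1 ht)
  obtain ⟨e, he, hye⟩ := exists_comm_of_htset hD (d := ⟨d0, hd0X⟩) hd0 hr hr3 (y := ⟨y, hyX⟩) (by
    rw [Subgroup.orderOf_mk]; exact hy)
  exact ⟨e, he, congrArg Subtype.val hye, T1, hT1, fun t ht => hXT e t ht, h2⟩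

/-- a subgroup centralizing a transposition and an element of `Fi24'` -/
theorem pull_card {d y : Fi24} (hd : d ∈ L) (hy : y ∈ commutator Fi24) (hyd : y * d = d * y) {K : Subgroup Fi24}
    (hK : K ≤ commutator Fi24) (h1 : ∀ k ∈ K, k * d = d * k) (h2 : ∀ k ∈ K, k * y = y * k) :
    ∃ k : Spor.Fi23, orderOf k = orderOf y ∧ Nat.card K ∣ Nat.card (centralizer ({k} : Set Spor.Fi23)) := by
  obtain ⟨ψ, P, hψ, -, -⟩ := exists_pull hd
  let f : ↥K →* ↥(Cd d) := inclusion (fun k hk => mem_Cd.2 ⟨h1 k hk, hK hk⟩)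
  let y' : ↥(Cd d) := ⟨y, mem_Cd.2 ⟨hyd, hy⟩⟩
  refine ⟨ψ y', ?_, ?_⟩
  · rw [orderOf_injective ψ hψ, Subgroup.orderOf_mk]
  · let φ : ↥K →* ↥(centralizer ({ψ y'} : Set Spor.Fi23)) := (ψ.comp f).codRestrict _ (fun k => by
      rw [mem_centralizer_singleton_iff]
      change ψ (f k) * ψ y' = ψ y' * ψ (f k)
      rw [← map_mul, ← map_mul]
      exact congrArg ψ (Subtype.ext (h2 k k.2)))
    refine card_dvd_of_injective φ ?_
    intro a b hab
    have h3 : ψ (f a) = ψ (f b) := congrArg Subtype.val hab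
    exact inclusion_injective _ (hψ h3)

/-- conjugation preserves the order of the centralizer in `Fi24'` -/
theorem card_Cd_conj (g y : Fi24) : Nat.card (Cd (g * y * g⁻¹)) = Nat.card (Cd y) := by
  symm
  refine Nat.card_congr (Equiv.subtypeEquiv (MulAut.conj g).toEquiv fun a => ?_)
  rw [mem_Cd, mem_Cd]
  change (a * y = y * a ∧ _) ↔ ((g * a * g⁻¹) * (g * y * g⁻¹) = (g * y * g⁻¹) * (g * a * g⁻¹) ∧ g * a * g⁻¹ ∈ _)
  have h2 : (g * a * g⁻¹) * (g * y * g⁻¹) = g * (a * y) * g⁻¹ := by group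
  have h3 : (g * y * g⁻¹) * (g * a * g⁻¹) = g * (y * a) * g⁻¹ := by group
  rw [h2, h3]
  refine and_congr ⟨fun h => by rw [h], fun h => mul_left_cancel (mul_right_cancel h)⟩ ?_
  rw [R08.FiTwentyFour.mem_commutator_iff, R08.FiTwentyFour.mem_commutator_iff, map_mul, map_mul, map_inv,
    mul_comm (sgn g), mul_inv_cancel_right]

/-- the centralizer in `Fi24'` of an element of order 5 -/
theorem card_five {y : Fi24} (hy : orderOf y = 5) : Nat.card (Cd y) ∣ 4585351680 * 362880 := by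
  have hF := fin
  obtain ⟨g, hg⟩ := LThreeFi24.FiveConj.exists_conj_five hy
  rw [← card_Cd_conj g y, hg]
  have h1 : ∀ c : ↥(Cd LThreeFi24.SNine.y0), ∃ σ, LThreeFi24.SNine.R (c : Fi24) σ := fun c =>
    LThreeFi24.SNine.exists_R c.2.1
  choose f hf using h1
  let φ : ↥(Cd LThreeFi24.SNine.y0) →* Equiv.Perm (Fin 9) := MonoidHom.mk' f fun a b =>
    LThreeFi24.SNine.R.uniq (hf (a * b)) ((hf a).mul (hf b))
  refine (card_dvd_ker_mul φ).trans ?_
  have e : Nat.card (Equiv.Perm (Fin 9)) = 362880 := by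
    rw [Nat.card_perm, Nat.card_fin]; rfl
  rw [e]
  refine mul_dvd_mul_right ?_ _
  have h2 : ∀ k ∈ φ.ker, LThreeFi24.SNine.R (k : Fi24) 1 := by
    intro k hk
    have h3 := hf k
    rwa [show f k = 1 from hk] at h3
  have h3 : ∀ x : Spor.Fi24.Gen, (x = .j ∨ x = .g ∨ x = .f ∨ x = .e ∨ x = .d ∨ x = .h ∨ x = .i) →
      ∀ k ∈ φ.ker.map (Cd LThreeFi24.SNine.y0).subtype, k * gen x = gen x * k := by
    rintro x hx _ ⟨k, hk, rfl⟩
    exact (h2 k hk).comm_gen x hx
  rw [← card_map_of_injective (K := φ.ker) (Cd LThreeFi24.SNine.y0).subtype_injective]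
  refine card_three (d := gen .j) (e := gen .d) (e' := gen .h) (R08.FiTwentyFour.gen_mem_L _)
    (R08.FiTwentyFour.gen_mem_L _) (R08.FiTwentyFour.gen_mem_L _) (LThreeFi24.CaseA.comm_gen (by decide)).eq
    (LThreeFi24.CaseA.comm_gen (by decide)).eq (LThreeFi24.CaseA.gen_noncomm (by decide) (by decide)) ?_
    (h3 _ (by decide)) (h3 _ (by decide)) (h3 _ (by decide))
  rintro _ ⟨k, -, rfl⟩
  exact k.2.2

/-- the centralizer in `Fi24'` of an element commuting with the transpositions of an `S_7` -/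
theorem card_tri {y : Fi24} {t : Fin 7 → Fin 7 → Fi24} (h : Tri L y t) : Nat.card (Cd y) ∣ 4585351680 * 5040 := by
  have hF := fin
  obtain ⟨f, hf⟩ := h.exists_hom (fun d hd g => R08.FiTwentyFour.conj hd g) (Cd y).subtype (fun g => (mem_Cd.1 g.2).1)
  refine (card_dvd_ker_mul f).trans ?_
  have e : Nat.card (Equiv.Perm (Fin 7)) = 5040 := by
    rw [Nat.card_perm, Nat.card_fin]; rfl
  rw [e]
  refine mul_dvd_mul_right ?_ _
  have h3 : ∀ i j, i ≠ j → ∀ k ∈ f.ker.map (Cd y).subtype, k * t i j = t i j * k := by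
    rintro i j hij _ ⟨k, hk, rfl⟩
    have h1 := hf k i j hij
    rw [MonoidHom.mem_ker.1 hk] at h1
    exact mul_inv_eq_iff_eq_mul.1 h1
  rw [← card_map_of_injective (K := f.ker) (Cd y).subtype_injective]
  refine card_three (d := t 3 4) (e := t 0 1) (e' := t 0 2) (h.mem _ _ (by decide)) (h.mem _ _ (by decide))
    (h.mem _ _ (by decide)) ?_ ?_ (h.not_comm (by decide) (by decide) (by decide)) ?_
    (h3 _ _ (by decide)) (h3 _ _ (by decide)) (h3 _ _ (by decide))
  · exact h.comm_of_disjoint (by decide) (by decide) (by decide) (by decide) (by decide) (by decide)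
  · exact h.comm_of_disjoint (by decide) (by decide) (by decide) (by decide) (by decide) (by decide)
  · rintro _ ⟨k, -, rfl⟩
    exact k.2.2

/-! ### Elements of order 13 -/

/-- a word of order 13 -/
def w13 : List Spor.Fi24.Gen := [.e, .c, .d, .h, .i, .b, .f, .a]

def l13 : List ℕ := [0, 23, 136, 156, 166666, 166698]

theorem sieve13 : Nat.beq (KFacts.FiTF.FixMask.sv (Fischer.Fi24RepDef.nw w13 false) KFacts.FiTF.FixMask.bl Fischer.Fi24RepOrb.UG)
    (KFacts.FiTF.FixMask.msk l13) = true := by decide +kernel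

/-- the word in `Fi23` -/
def v13 : List Spor.Fi23.Gen := [.e, .c, .d, .h, .i, .b, .f, .a]

noncomputable def Y : Fi24 := Fischer.Fi24Rep.word w13

theorem phi_y13 : facts.phi (LThreeFi23.elw LThreeFi23.y13) = Y := by
  have h1 : LThreeFi23.elw LThreeFi23.y13 = (v13.map Fischer.Fi23Hom.gen).prod := rfl
  have h2 : ∀ w : List Spor.Fi23.Gen, facts.phi ((w.map Fischer.Fi23Hom.gen).prod) = (w.map Fischer.Fi24Class.img).prod := by
    intro w
    induction w with
    | nil => simp
    | cons x w ih =>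
      rw [List.map_cons, List.prod_cons, map_mul, ih, List.map_cons, List.prod_cons]
      exact congrArg (· * _) (facts.phi_gen x)
  rw [h1, h2, Fischer.Fi24Class.img_word]
  have h3 : (gen .l : Fi24) ^ 2 = 1 := by rw [pow_two]; exact Fischer.Fi24Final.gen_sq .l
  have h4 : (gen .l : Fi24) ^ v13.length = 1 := by
    change gen .l ^ (2 * 4) = 1
    rw [pow_mul, h3, one_pow]
  refine (congrArg (_ * ·) h4).trans ?_
  rw [mul_one]
  rfl

theorem Y_pow : Y ^ 13 = 1 := by rw [← phi_y13, ← map_pow, LThreeFi23.pow13, map_one]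

/-- the transpositions commuting with `Y` -/
theorem fix_Y {p : ℕ} (h : Fischer.Fi24RepOrb.UG.testBit p = true) (hp : Fischer.Fi24Rep.rho Y p = p) : p ∈ l13 := by
  have h1 : KFacts.FiTF.FixMask.sv (Fischer.Fi24RepDef.nw w13 false) KFacts.FiTF.FixMask.bl Fischer.Fi24RepOrb.UG =
    KFacts.FiTF.FixMask.msk l13 := Nat.eq_of_beq_eq_true sieve13
  rw [← KFacts.FiTF.FixMask.testBit_msk, ← h1]
  apply KFacts.FiTF.FixMask.sv_spec (Fischer.Fi24RepDef.wok _ _) _ h
  rw [← Fischer.Fi24Rep.rho_word]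
  exact hp

/-- every element of order 13 commutes with a transposition -/
theorem exists_trans {y : Fi24} (hy : orderOf y = 13) : ∃ d ∈ L, y * d = d * y := by
  have hF := fin
  obtain ⟨k, hk⟩ := CpAutFiSeven.exists_conj (H := Fi24) (p := 13) (a := y) (b := facts.phi (LThreeFi23.elw LThreeFi23.y13)) (by norm_num)
    (by rw [CpAutFiSeven.card_F]; norm_num) hy (by
      rw [orderOf_injective facts.phi facts.phi_injective]
      have : Fact (Nat.Prime 13) := ⟨by norm_num⟩
      exact orderOf_eq_prime LThreeFi23.pow13 LThreeFi23.y13_ne)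
  have h1 : k * y * k⁻¹ ∈ zpowers (facts.phi (LThreeFi23.elw LThreeFi23.y13)) := by
    rw [← hk]; exact mem_zpowers _
  obtain ⟨i, hi⟩ := h1
  have h2 : (k * y * k⁻¹) * gen .l = gen .l * (k * y * k⁻¹) := by
    have hi' : k * y * k⁻¹ = facts.phi (LThreeFi23.elw LThreeFi23.y13 ^ i) := by rw [map_zpow]; exact hi.symm
    rw [hi']
    exact facts.phi_comm _
  refine ⟨k⁻¹ * gen .l * k, ?_, ?_⟩
  · have := R08.FiTwentyFour.conj (R08.FiTwentyFour.gen_mem_L .l) k⁻¹
    rwa [inv_inv] at this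
  · calc y * (k⁻¹ * gen .l * k) = k⁻¹ * ((k * y * k⁻¹) * gen .l) * k := by group
      _ = k⁻¹ * (gen .l * (k * y * k⁻¹)) * k := by rw [h2]
      _ = (k⁻¹ * gen .l * k) * y := by group

/-- the transpositions commuting with `y` -/
abbrev Ly (y : Fi24) : Type := {d : Fi24 // d ∈ L ∧ y * d = d * y}

theorem card_LY : Nat.card (Ly Y) ≤ 6 := by
  have hF := fin
  choose P hP using fun d : Ly Y => KFacts.FiTF.Pts.exists_pt d.2.1
  have h1 : ∀ d : Ly Y, P d ∈ l13 := fun d => fix_Y (KFacts.FiTF.FixZ.isPt_UG (hP d)) (((hP d).comm_iff Y).1 d.2.2)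
  have h2 : Function.Injective (fun d : Ly Y => (⟨P d, h1 d⟩ : {p : ℕ // p ∈ l13})) := by
    intro a b hab
    have h3 : P a = P b := congrArg Subtype.val hab
    have h4 := hP b
    rw [← h3] at h4
    exact Subtype.ext ((hP a).inj h4)
  have h3 := Nat.card_le_card_of_injective _ h2
  refine h3.trans (le_of_eq ?_)
  rw [Nat.card_eq_fintype_card]
  rfl

/-- the centralizer acts on the transpositions commuting with `y` -/
noncomputable instance (y : Fi24) : MulAction ↥(Cd y) (Ly y) where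
  smul c d := ⟨(c : Fi24) * d * (c : Fi24)⁻¹, R08.FiTwentyFour.conj d.2.1 _, by
    have h1 := (mem_Cd.1 c.2).1
    have h2 : y * (c : Fi24) = c * y := h1.symm
    have h3 : (c : Fi24)⁻¹ * y = y * (c : Fi24)⁻¹ := by
      rw [inv_mul_eq_iff_eq_mul, ← mul_assoc, eq_mul_inv_iff_mul_eq, h2]
    calc y * ((c : Fi24) * d * (c : Fi24)⁻¹) = (y * c) * d * (c : Fi24)⁻¹ := by group
      _ = c * (y * d) * (c : Fi24)⁻¹ := by rw [h2]; group
      _ = c * d * (y * (c : Fi24)⁻¹) := by rw [d.2.2]; group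
      _ = (c * d * (c : Fi24)⁻¹) * y := by rw [← h3]; group⟩
  one_smul d := Subtype.ext (by
    change ((1 : ↥(Cd y)) : Fi24) * d * ((1 : ↥(Cd y)) : Fi24)⁻¹ = d
    rw [coe_one]; group)
  mul_smul a b d := Subtype.ext (by
    change ((a * b : ↥(Cd y)) : Fi24) * d * ((a * b : ↥(Cd y)) : Fi24)⁻¹ =
      (a : Fi24) * ((b : Fi24) * d * (b : Fi24)⁻¹) * (a : Fi24)⁻¹
    rw [coe_mul]; group)

theorem smul_Ly {y : Fi24} (c : ↥(Cd y)) (d : Ly y) : ((c • d : Ly y) : Fi24) = (c : Fi24) * d * (c : Fi24)⁻¹ := rfl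

theorem mem_comm_of_odd {y : Fi24} {n : ℕ} (hn : Odd n) (hy : orderOf y = n) : y ∈ commutator Fi24 := by
  rw [R08.FiTwentyFour.mem_commutator_iff]
  rcases Int.units_eq_one_or (sgn y) with h | h
  · exact h
  · have h1 : sgn y ^ n = 1 := by rw [← map_pow, ← hy, pow_orderOf_eq_one, map_one]
    rw [h, hn.neg_one_pow] at h1
    exact absurd h1 (by decide)

theorem card_Cd_eq {y : Fi24} (hy : orderOf y = 13) : Nat.card (Cd y) = Nat.card (Cd Y) := by
  have hF := fin
  have hp : Fact (Nat.Prime 13) := ⟨by norm_num⟩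
  have hY : orderOf Y = 13 := by
    rw [← phi_y13, orderOf_injective facts.phi facts.phi_injective]
    exact orderOf_eq_prime LThreeFi23.pow13 LThreeFi23.y13_ne
  obtain ⟨k, hk⟩ := CpAutFiSeven.exists_conj (H := Fi24) (p := 13) (a := y) (b := Y) (by norm_num)
    (by rw [CpAutFiSeven.card_F]; norm_num) hy hY
  have h1 : k * y * k⁻¹ ∈ zpowers Y := by
    rw [← hk]; exact mem_zpowers _
  obtain ⟨i, hi⟩ := h1
  have hy1 : k * y * k⁻¹ ≠ 1 := by
    intro h
    have h2 : orderOf (k * y * k⁻¹) = 13 := by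
      rw [← MulAut.conj_apply, MulEquiv.orderOf_eq, hy]
    rw [h, orderOf_one] at h2
    norm_num at h2
  have h2 := cent_eq_of_zpow (p := 13) (by norm_num) Y_pow hy1 (i := i) hi.symm
  rw [← card_Cd_conj k y]
  unfold Cd
  rw [h2]

/-- **the 2-part of the centralizer of an element of order 13** -/
theorem two_thirteen {y : Fi24} (hy : orderOf y = 13) : ¬ 2 ^ 15 ∣ Nat.card (Cd y) := by
  have hF := fin
  have hp2 : Fact (Nat.Prime 2) := ⟨Nat.prime_two⟩
  have hp : Fact (Nat.Prime 13) := ⟨by norm_num⟩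
  have hY : orderOf Y = 13 := by
    rw [← phi_y13, orderOf_injective facts.phi facts.phi_injective]
    exact orderOf_eq_prime LThreeFi23.pow13 LThreeFi23.y13_ne
  rw [card_Cd_eq hy]
  intro hd
  obtain ⟨T, hT⟩ := Sylow.exists_subgroup_card_pow_prime 2 hd
  have hTp : IsPGroup 2 ↥T := IsPGroup.of_card hT
  have hne : Nonempty (Ly Y) := by
    obtain ⟨d, hd, h⟩ := exists_trans hY
    exact ⟨⟨d, hd, h⟩⟩
  obtain ⟨x, hx⟩ := exists_small (T := ↥T) (X := Ly Y) (k := 2) hTp (by
    intro h8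
    have h9 := Nat.le_of_dvd Nat.card_pos h8
    have h10 := card_LY
    omega)
  let K : Subgroup Fi24 := ((MulAction.stabilizer (↥T) x).map T.subtype).map (Cd Y).subtype
  have hK : Nat.card K = Nat.card (MulAction.stabilizer (↥T) x) := by
    rw [card_map_of_injective (Cd Y).subtype_injective, card_map_of_injective T.subtype_injective]
  have hmem : ∀ k ∈ K, ∃ c : ↥(Cd Y), c • x = x ∧ (c : Fi24) = k := by
    rintro _ ⟨_, ⟨c, hc, rfl⟩, rfl⟩
    exact ⟨c, hc, rfl⟩
  obtain ⟨k, hk, hk'⟩ := pull_card (d := (x : Fi24)) (y := Y) x.2.1 (mem_comm_of_odd (by decide) hY) x.2.2 (K := K) (by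
      intro k hk
      obtain ⟨c, -, rfl⟩ := hmem k hk
      exact c.2.2) (by
      intro k hk
      obtain ⟨c, hc, rfl⟩ := hmem k hk
      have h1 := congrArg Subtype.val hc
      rw [smul_Ly] at h1
      exact mul_inv_eq_iff_eq_mul.1 h1) (by
      intro k hk
      obtain ⟨c, -, rfl⟩ := hmem k hk
      exact (mem_Cd.1 c.2).1)
  have h1 : 2 ^ 13 ∣ Nat.card K := by
    rw [hK]
    rw [hT] at hx
    have h2 : 2 ^ 13 * 2 ^ 2 ∣ Nat.card (MulAction.stabilizer (↥T) x) * 2 ^ 2 := by
      rw [← pow_add]; exact hx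
    exact Nat.dvd_of_mul_dvd_mul_right (by norm_num) h2
  rw [hY] at hk
  have h2 := (h1.trans hk').trans (F23.card_thirteen hk)
  norm_num at h2

/-! ### The 3-parts -/

/-- a point of `Fi23` -/
theorem seven_part {k : Spor.Fi23} (hk : orderOf k = 7) : ¬ 3 ^ 10 ∣ Nat.card (centralizer ({k} : Set Spor.Fi23)) := by
  have hF := F23.fin
  have h3 : Fact (Nat.Prime 3) := ⟨Nat.prime_three⟩
  have hk1 : k ≠ 1 := F23.ne_of_order (by norm_num) hk
  obtain ⟨g, i, hg⟩ := LThreeFi23.conj_seven (y := k) (by rw [← hk, pow_orderOf_eq_one])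
  rw [card_cent_of_conj_zpow (by norm_num) LThreeFi23.pow7 hk1 hg]
  intro hd
  obtain ⟨T, hT⟩ := Sylow.exists_subgroup_card_pow_prime 3 hd
  have hTp : IsPGroup 3 ↥T := IsPGroup.of_card hT
  have hcard : Nat.card (H243.Fi23Kill.Fx (LThreeFi23.elw LThreeFi23.y7)) = 10 := by
    have e : H243.Fi23Kill.Fx (LThreeFi23.elw LThreeFi23.y7) ≃ {p : ℕ // p ∈ [0, 1, 2, 3, 5268, 6529, 6531, 8002, 8005, 8006]} :=
      Equiv.subtypeEquivRight fun p => by
        rw [← LThreeFi23.pchk_mem LThreeFi23.e_y7]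
        refine and_congr_right fun _ => ?_
        unfold LThreeFi23.Pat
        rw [List.forall_mem_singleton]
        simp
    rw [Nat.card_congr e, Nat.card_eq_fintype_card]
    rfl
  obtain ⟨x, hx⟩ := exists_small (T := ↥T) (X := H243.Fi23Kill.Fx (LThreeFi23.elw LThreeFi23.y7)) (k := 0) hTp (by
    rw [hcard]; norm_num)
  rw [hT, pow_zero, mul_one] at hx
  have h1 : Nat.card (MulAction.stabilizer (↥T) x) ∣ 129123503308800 := by
    rw [← H243.Fi23Kill.card_Sp x.2.1]
    let f : ↥(MulAction.stabilizer (↥T) x) →* ↥(H243.Fi23Kill.Sp x.1) :=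
      { toFun := fun g => ⟨((g : ↥T) : ↥(centralizer ({LThreeFi23.elw LThreeFi23.y7} : Set Spor.Fi23))), by
          have h3 := g.2
          rw [MulAction.mem_stabilizer_iff] at h3
          exact congrArg Subtype.val h3⟩
        map_one' := rfl
        map_mul' := fun _ _ => rfl }
    refine card_dvd_of_injective f ?_
    intro a b hab
    have h3 := congrArg Subtype.val hab
    exact Subtype.ext (Subtype.ext (Subtype.ext h3))
  have h2 := hx.trans h1
  norm_num at h2

/-- **the 3-parts of the centralizers of elements of order 5, 7, 13** -/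
theorem three_part {y : Fi24} {r a : ℕ} (hr : r.Prime) (hr3 : r ≠ 3) (hr2 : r ≠ 2) (hy : orderOf y = r) (ha : 13 ≤ a)
    (h : ∀ k : Spor.Fi23, orderOf k = r → ¬ 3 ^ (a - 3) ∣ Nat.card (centralizer ({k} : Set Spor.Fi23))) :
    ¬ 3 ^ a ∣ Nat.card (Cd y) := by
  have hF := fin
  have h3 : Fact (Nat.Prime 3) := ⟨Nat.prime_three⟩
  intro hd
  obtain ⟨T0, hT0⟩ := Sylow.exists_subgroup_card_pow_prime 3 hd
  let T : Subgroup Fi24 := T0.map (Cd y).subtype
  have hT : Nat.card T = 3 ^ a := by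
    rw [card_map_of_injective (Cd y).subtype_injective, hT0]
  have hmem : ∀ t ∈ T, t ∈ Cd y := by
    rintro _ ⟨t, -, rfl⟩
    exact t.2
  obtain ⟨d, hd, hyd, T1, hT1, h1, h2⟩ := exists_cent (T := T) (IsPGroup.of_card hT) (by
    rw [hT]; exact pow_dvd_pow 3 ha) hr hr3 hy (fun t ht => (mem_Cd.1 (hmem t ht)).1)
  obtain ⟨k, hk, hk'⟩ := pull_card (d := d) (y := y) hd (mem_comm_of_odd (hr.odd_of_ne_two hr2) hy) hyd (K := T1)
    (fun t ht => (hmem t (hT1 ht)).2) h1 (fun t ht => (mem_Cd.1 (hmem t (hT1 ht))).1)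
  apply h k (by rw [hk, hy])
  refine dvd_trans ?_ hk'
  rw [hT] at h2
  have e : 3 ^ a = 3 ^ (a - 3) * 3 ^ 3 := by
    rw [← pow_add]; congr 1; omega
  rw [e] at h2
  exact Nat.dvd_of_mul_dvd_mul_right (by norm_num) h2

/-! ### The rows -/

instance fin' : Finite Spor.Fi24' := by
  have := fin
  exact inferInstanceAs (Finite ↥(commutator Spor.Fi24))

theorem card_Fi24' : Nat.card Spor.Fi24' = 1255205709190661721292800 := S1698.result.2

theorem card_cent (y : Spor.Fi24') : Nat.card (centralizer ({y} : Set Spor.Fi24')) = Nat.card (Cd (y : Fi24)) := by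
  rw [← card_map_of_injective (K := centralizer ({y} : Set Spor.Fi24')) (commutator Fi24).subtype_injective]
  congr 2
  ext c
  rw [mem_map]
  constructor
  · rintro ⟨k, hk, rfl⟩
    exact mem_Cd.2 ⟨congrArg Subtype.val (mem_centralizer_singleton_iff.1 hk), k.2⟩
  · intro hc
    obtain ⟨h1, h2⟩ := mem_Cd.1 hc
    exact ⟨⟨c, h2⟩, mem_centralizer_singleton_iff.2 (Subtype.ext h1), rfl⟩

theorem coe_order {y : Spor.Fi24'} {r : ℕ} (hy : orderOf y = r) : orderOf (y : Fi24) = r := by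
  rw [← hy]
  exact orderOf_injective (commutator Fi24).subtype (commutator Fi24).subtype_injective y

/-- the product `l k` -/
theorem exists_elt : ∃ x : Spor.Fi24', orderOf x = 3 ∧
    Nat.card (centralizer ({x} : Set Spor.Fi24')) ∣ 2 ^ 14 * 3 ^ 14 * 5 ^ 2 * 7 * 13 := by
  have hF := fin
  have hl := Cfsg.Agent.LThreeFi24.Base24.gen_mem .l
  have hk := Cfsg.Agent.LThreeFi24.Base24.gen_mem .k
  have hmem : gen .l * gen .k ∈ commutator Fi24 := Cfsg.Agent.R08.FiTwentyFour.even hl hk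
  have hn : (gen .l : Fi24) * gen .k ≠ gen .k * gen .l := LThreeFi24.CaseA.gen_noncomm (by decide) (by decide)
  have hord : orderOf (gen .l * gen .k : Fi24) = 3 := by
    have : Fact (Nat.Prime 3) := ⟨by norm_num⟩
    refine orderOf_eq_prime (LThreeFi24.CaseA.cube_gen (by decide)) ?_
    intro h
    apply hn
    have h1 : (gen .l : Fi24) = (gen .k)⁻¹ := eq_inv_of_mul_eq_one_left h
    rw [h1]; group
  refine ⟨(⟨_, hmem⟩ : ↥(commutator Fi24)), ?_, ?_⟩
  · rw [Subgroup.orderOf_mk, hord]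
  · rw [card_cent]
    refine dvd_trans ?_ LThreeFi24.Main24.card_Z0
    refine card_dvd_of_le ?_
    intro c hc
    exact mem_centralizer_singleton_iff.2 (mem_Cd.1 hc).1

theorem inv_model : Inv1 3 5 Spor.Fi24' ∧ Inv1 3 7 Spor.Fi24' ∧ Inv1 3 11 Spor.Fi24' ∧ Inv1 3 13 Spor.Fi24' ∧
    Inv1 3 17 Spor.Fi24' ∧ Inv1 3 23 Spor.Fi24' := by
  have hF := F23.fin
  refine ⟨?_, ?_, ?_, ?_, ?_, ?_⟩
  · refine inv1_of_cent (a := 15) (b := 2) (w := 1) (by norm_num) (by norm_num) (by rw [card_Fi24']; norm_num)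
      (by rw [card_Fi24']; norm_num) (fun k h1 h2 => by interval_cases k <;> norm_num) fun y hy => ?_
    rw [card_cent]
    refine three_part (by norm_num) (by norm_num) (by norm_num) (coe_order hy) (by norm_num) fun k hk hd => ?_
    have := hd.trans (F23.card_five hk)
    norm_num at this
  · refine inv1_of_cent (a := 14) (b := 3) (w := 2) (by norm_num) (by norm_num) (by rw [card_Fi24']; norm_num)
      (by rw [card_Fi24']; norm_num) (fun k h1 h2 => by interval_cases k <;> norm_num) fun y hy => ?_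
    rw [card_cent]
    refine three_part (by norm_num) (by norm_num) (by norm_num) (coe_order hy) (by norm_num) fun k hk hd => ?_
    exact seven_part hk ((pow_dvd_pow 3 (by norm_num)).trans hd)
  · obtain ⟨x, hx, hx'⟩ := exists_elt
    refine inv1_of_elt (b := 1) (by norm_num) (by norm_num) (by rw [card_Fi24']; norm_num)
      (fun k h1 h2 => by interval_cases k; norm_num) hx fun hd => ?_
    have := hd.trans hx'
    norm_num at this
  · refine inv1_of_cent (a := 15) (b := 1) (w := 1) (by norm_num) (by norm_num) (by rw [card_Fi24']; norm_num)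
      (by rw [card_Fi24']; norm_num) (fun k h1 h2 => by interval_cases k; norm_num) fun y hy => ?_
    rw [card_cent]
    refine three_part (by norm_num) (by norm_num) (by norm_num) (coe_order hy) (by norm_num) fun k hk hd => ?_
    have := hd.trans (F23.card_thirteen hk)
    norm_num at this
  · obtain ⟨x, hx, hx'⟩ := exists_elt
    refine inv1_of_elt (b := 1) (by norm_num) (by norm_num) (by rw [card_Fi24']; norm_num)
      (fun k h1 h2 => by interval_cases k; norm_num) hx fun hd => ?_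
    have := hd.trans hx'
    norm_num at this
  · obtain ⟨x, hx, hx'⟩ := exists_elt
    refine inv1_of_elt (b := 1) (by norm_num) (by norm_num) (by rw [card_Fi24']; norm_num)
      (fun k h1 h2 => by interval_cases k; norm_num) hx fun hd => ?_
    have := hd.trans hx'
    norm_num at this

/-- the 2-groups -/
theorem two_model : Inv1 2 5 Spor.Fi24' ∧ Inv1 2 7 Spor.Fi24' ∧
    ∀ y : Spor.Fi24', orderOf y = 13 → ¬ 2 ^ 15 ∣ Nat.card (centralizer ({y} : Set Spor.Fi24')) := by
  refine ⟨?_, ?_, ?_⟩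
  · refine inv1_of_cent (a := 18) (b := 2) (w := 3) (by norm_num) (by norm_num) (by rw [card_Fi24']; norm_num)
      (by rw [card_Fi24']; norm_num) (fun k h1 h2 => by interval_cases k <;> norm_num) fun y hy hd => ?_
    rw [card_cent] at hd
    have := hd.trans (card_five (coe_order hy))
    norm_num at this
  · refine inv1_of_cent (a := 17) (b := 3) (w := 4) (by norm_num) (by norm_num) (by rw [card_Fi24']; norm_num)
      (by rw [card_Fi24']; norm_num) (fun k h1 h2 => by interval_cases k <;> norm_num) fun y hy hd => ?_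
    by_cases h : ∀ d ∈ L, (y : Fi24) * d ≠ d * y
    · exact CpAutFiSeven.not_four_cent hy h ((pow_dvd_pow 2 (by norm_num : 2 ≤ 17)).trans hd)
    · push Not at h
      obtain ⟨d, hd', hyd⟩ := h
      obtain ⟨t, ht⟩ := CpAutFiSeven.tri (coe_order hy) hd' hyd
      rw [card_cent] at hd
      have := hd.trans (card_tri ht)
      norm_num at this
  · intro y hy
    rw [card_cent]
    exact two_thirteen (coe_order hy)

end Cfsg.Agent.H573.Hall.F24

namespace Cfsg.Agent.H573.Hall

open Subgroup Cfsg Cfsg.Agent.H171.Odd Cfsg.Agent.H553.OddHall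

universe u

theorem inv_fi24 {G : Type u} [Group G] (h : Cfsg.Spor.IsoFi24' G) :
    Inv1 3 5 G ∧ Inv1 3 7 G ∧ Inv1 3 11 G ∧ Inv1 3 13 G ∧ Inv1 3 17 G ∧ Inv1 3 23 G := by
  obtain ⟨e⟩ := h
  obtain ⟨h5, h7, h11, h13, h17, h23⟩ := F24.inv_model
  exact ⟨Inv1.congr e h5, Inv1.congr e h7, Inv1.congr e h11, Inv1.congr e h13, Inv1.congr e h17, Inv1.congr e h23⟩

theorem odd_fi24 {G : Type u} [Group G] [Finite G] [IsSimpleGroup G] (hna : ¬ IsMulCommutative G)
    (hind : OddInd G) (h : Cfsg.Spor.IsoFi24' G) : OddC G := by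
  obtain ⟨h5, h7, h11, h13, h17, h23⟩ := inv_fi24 h
  obtain ⟨e⟩ := h
  refine oddC_of_cert hna hind ((Nat.card_congr e.toEquiv).trans F24.card_Fi24')
    (L := [(3, 16), (5, 2), (7, 3), (11, 1), (13, 1), (17, 1), (23, 1), (29, 1)])
    (T := [(3, 5), (3, 7), (3, 11), (3, 13), (3, 17), (3, 23)]) ?_ ?_ (by decide +kernel)
  · simp; norm_num
  · simp only [List.mem_cons, List.not_mem_nil, or_false]
    rintro x (rfl | rfl | rfl | rfl | rfl | rfl)
    exacts [h5, h7, h11, h13, h17, h23]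

/-- no 5-subgroup or 7-subgroup is normalised by a Sylow 2-subgroup, and the centralizers of the elements of order 13 -/
theorem two_fi24 {G : Type u} [Group G] (h : Cfsg.Spor.IsoFi24' G) :
    Inv1 2 5 G ∧ Inv1 2 7 G ∧ ∀ y : G, orderOf y = 13 → ¬ 2 ^ 15 ∣ Nat.card (centralizer ({y} : Set G)) := by
  obtain ⟨e⟩ := h
  obtain ⟨h5, h7, h13⟩ := F24.two_model
  refine ⟨Inv1.congr e h5, Inv1.congr e h7, fun y hy hd => ?_⟩
  rw [card_cent_equiv e] at hd
  exact h13 (e y) (by rw [MulEquiv.orderOf_eq, hy]) hd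

end Cfsg.Agent.H573.Hall
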