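import Cfsg.Agent.H171.Odd.Tools
import Cfsg.Agent.H171.Odd.Cert

/-!
# Small tools for the sporadic rows of S4350 (helper573)
-/

set_option autoImplicit false

namespace Cfsg.Agent.H573.Hall

open Subgroup Cfsg Cfsg.Agent.H171.Odd Cfsg.Agent.H553.OddHall

universe u v

variable {G : Type u} [Group G] {H : Type v} [Group H]

theorem Inv1.congr {s t : ℕ} (e : G ≃* H) (h : Inv1 s t H) : Inv1 s t G := by
  intro S hS hi R hR hn
  have h9 : (S.map e.toMonoidHom).index = S.index := Subgroup.index_map_equiv S e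
  have h1 := h (S.map e.toMonoidHom) (hS.map _) (by rwa [h9]) (R.map e.toMonoidHom) (hR.map _) ?_
  · exact (Subgroup.map_eq_bot_iff_of_injective _ e.injective).1 h1
  · rintro _ ⟨g, hg, rfl⟩
    rw [mem_normalizer_iff]
    intro x
    have h2 := hn hg
    rw [mem_normalizer_iff] at h2
    have h3 : x = e (e.symm x) := (e.apply_symm_apply x).symm
    have h4 := h2 (e.symm x)
    have h5 : ∀ z : G, (e.toMonoidHom z ∈ R.map e.toMonoidHom) ↔ z ∈ R := fun z =>
      Subgroup.mem_map_iff_mem e.injective
    have h6 : x ∈ R.map e.toMonoidHom ↔ e.symm x ∈ R := by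
      conv_lhs => rw [h3]
      exact h5 _
    have h7 : e.toMonoidHom g * x * (e.toMonoidHom g)⁻¹ = e.toMonoidHom (g * e.symm x * g⁻¹) := by
      rw [map_mul, map_mul, map_inv]
      congr 2
    rw [h6, h7, h5]
    exact h4

/-- the centralizers of conjugate elements have the same order -/
theorem card_cent_of_isConj {x y : G} (h : IsConj x y) :
    Nat.card (centralizer ({x} : Set G)) = Nat.card (centralizer ({y} : Set G)) := by
  obtain ⟨g, hg⟩ := isConj_iff.1 h
  refine Nat.card_congr (Equiv.subtypeEquiv (MulAut.conj g).toEquiv fun a => ?_)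
  rw [mem_centralizer_singleton_iff, mem_centralizer_singleton_iff, ← hg]
  change a * x = x * a ↔ (g * a * g⁻¹) * (g * x * g⁻¹) = (g * x * g⁻¹) * (g * a * g⁻¹)
  constructor
  · intro h1
    have h2 : (g * a * g⁻¹) * (g * x * g⁻¹) = g * (a * x) * g⁻¹ := by group
    have h3 : (g * x * g⁻¹) * (g * a * g⁻¹) = g * (x * a) * g⁻¹ := by group
    rw [h2, h3, h1]
  · intro h1
    have h2 : (g * a * g⁻¹) * (g * x * g⁻¹) = g * (a * x) * g⁻¹ := by group
    have h3 : (g * x * g⁻¹) * (g * a * g⁻¹) = g * (x * a) * g⁻¹ := by group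
    rw [h2, h3] at h1
    exact mul_left_cancel (mul_right_cancel h1)

/-- an isomorphism preserves the orders of centralizers -/
theorem card_cent_equiv (e : G ≃* H) (y : G) :
    Nat.card (centralizer ({y} : Set G)) = Nat.card (centralizer ({e y} : Set H)) := by
  refine Nat.card_congr (Equiv.subtypeEquiv e.toEquiv fun a => ?_)
  rw [mem_centralizer_singleton_iff, mem_centralizer_singleton_iff]
  change a * y = y * a ↔ e a * e y = e y * e a
  rw [← map_mul, ← map_mul, e.injective.eq_iff]

/-- the centralizer of a nontrivial power of an element of prime order -/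
theorem cent_eq_of_zpow {p : ℕ} (hp : p.Prime) {y z : G} (hz : z ^ p = 1) (hy : y ≠ 1) {i : ℤ} (h : y = z ^ i) :
    centralizer ({y} : Set G) = centralizer ({z} : Set G) := by
  have hF : Fact p.Prime := ⟨hp⟩
  have hz1 : z ≠ 1 := by
    rintro rfl
    exact hy (by rw [h, one_zpow])
  have hoz : orderOf z = p := orderOf_eq_prime hz hz1
  have hoy : orderOf y = p := by
    refine orderOf_eq_prime ?_ hy
    rw [h, ← zpow_natCast, zpow_comm, zpow_natCast, hz, one_zpow]
  have h1 : zpowers y = zpowers z := by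
    have : Finite ↥(zpowers z) := Nat.finite_of_card_ne_zero (by rw [Nat.card_zpowers, hoz]; exact hp.ne_zero)
    refine eq_of_le_of_card_ge (zpowers_le.2 (by rw [h]; exact zpow_mem (mem_zpowers _) i)) ?_
    rw [Nat.card_zpowers, Nat.card_zpowers, hoy, hoz]
  ext a
  rw [mem_centralizer_singleton_iff, mem_centralizer_singleton_iff]
  constructor
  · intro h2
    have h3 : zpowers y ≤ centralizer {a} := zpowers_le.2 (mem_centralizer_singleton_iff.2 h2.symm)
    rw [h1, zpowers_le] at h3
    exact (mem_centralizer_singleton_iff.1 h3).symm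
  · intro h2
    have h3 : zpowers z ≤ centralizer {a} := zpowers_le.2 (mem_centralizer_singleton_iff.2 h2.symm)
    rw [← h1, zpowers_le] at h3
    exact (mem_centralizer_singleton_iff.1 h3).symm

theorem card_cent_of_conj_zpow {p : ℕ} (hp : p.Prime) {y z g : G} (hz : z ^ p = 1) (hy : y ≠ 1) {i : ℤ}
    (h : g * y * g⁻¹ = z ^ i) :
    Nat.card (centralizer ({y} : Set G)) = Nat.card (centralizer ({z} : Set G)) := by
  rw [card_cent_of_isConj (isConj_iff.2 ⟨g, rfl⟩ : IsConj y (g * y * g⁻¹)),
    cent_eq_of_zpow hp hz (y := g * y * g⁻¹) (fun h1 => hy ?_) h]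
  have h2 : y = g⁻¹ * (g * y * g⁻¹) * g := by group
  rw [h2, h1]
  group

/-- Cauchy in a centralizer -/
theorem exists_of_dvd_cent [Finite G] {p : ℕ} (hp : p.Prime) {y : G} (h : p ∣ Nat.card (centralizer ({y} : Set G))) :
    ∃ x : G, orderOf x = p ∧ x * y = y * x := by
  have hF : Fact p.Prime := ⟨hp⟩
  obtain ⟨⟨x, hx⟩, hxp⟩ := exists_prime_orderOf_dvd_card' p h
  rw [Subgroup.orderOf_mk] at hxp
  exact ⟨x, hxp, mem_centralizer_singleton_iff.1 hx⟩

theorem not_dvd_cent [Finite G] {p : ℕ} (hp : p.Prime) {y : G} (h : ∀ x : G, orderOf x = p → x * y = y * x → False) :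
    ¬ p ∣ Nat.card (centralizer ({y} : Set G)) := fun hd => by
  obtain ⟨x, hx, h1⟩ := exists_of_dvd_cent hp hd
  exact h x hx h1

/-- the order of a group divides the order of a kernel times the order of the target -/
theorem card_dvd_ker_mul [Finite G] [Finite H] (f : G →* H) : Nat.card G ∣ Nat.card ↥f.ker * Nat.card H := by
  rw [← f.ker.card_mul_index, Subgroup.index_ker]
  exact mul_dvd_mul_left _ (card_subgroup_dvd_card _)

end Cfsg.Agent.H573.Hall
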