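import Cfsg.Agent.H573.Hall.FiTwentyTwo
import Cfsg.Agent.H573.Hall.Lib
import Cfsg.Agent.H573.Hall.Orb

/-!
# `Fi22`: 2-parts of centralizers of elements of order 5 and 13 (helper573)
-/

set_option autoImplicit false
set_option maxRecDepth 100000

namespace Cfsg.Agent.H573.Hall

open Subgroup Cfsg Cfsg.Agent.H171.Odd Cfsg.Agent.H553.OddHall
open Cfsg.Agent.LThreeFi22 Cfsg.Agent.LThreeFi22.Inst

universe u

/-- a `p`-subgroup acting by conjugation on a finite set -/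
theorem exists_small_set {K : Type*} [Group K] [Finite K] {p k : ℕ} [hp : Fact p.Prime] {P : Subgroup K}
    (hP : IsPGroup p ↥P) {S : Set K} (hS : ¬ p ^ (k + 1) ∣ S.ncard)
    (h : ∀ g ∈ P, ∀ s ∈ S, g * s * g⁻¹ ∈ S) :
    ∃ s ∈ S, ∃ P1 : Subgroup K, P1 ≤ P ∧ (∀ g ∈ P1, g * s = s * g) ∧ Nat.card P ∣ Nat.card P1 * p ^ k := by
  let _ : MulAction ↥P ↥S := MulAction.compHom _ (actHom P S h)
  obtain ⟨x, hx⟩ := exists_small (T := ↥P) (X := ↥S) (k := k) hP (by
    rw [Nat.card_coe_set_eq]; exact hS)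
  refine ⟨x, x.2, (MulAction.stabilizer (↥P) x).map P.subtype, ?_, ?_, ?_⟩
  · rintro _ ⟨g, -, rfl⟩
    exact g.2
  · rintro _ ⟨g, hg, rfl⟩
    have h1 : (g : K) * x * (g : K)⁻¹ = x := congrArg Subtype.val (MulAction.mem_stabilizer_iff.1 hg)
    exact mul_inv_eq_iff_eq_mul.1 h1
  · rw [card_map_of_injective P.subtype_injective]
    exact hx

/-- the centralizer of an element of order 5 of `Fi22` -/
theorem fi22_five {G : Type u} [Group G] (h : Cfsg.Spor.IsoFi22 G) {u : G} (hu : orderOf u = 5) :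
    ¬ 2 ^ 14 ∣ Nat.card (centralizer ({u} : Set G)) := by
  obtain ⟨e⟩ := h
  have C := Inst.ctx e
  have hfin : Finite G := Nat.finite_of_card_ne_zero (by rw [C.card]; norm_num)
  have hp : Fact (Nat.Prime 2) := ⟨Nat.prime_two⟩
  intro hd
  have hu5 : u ^ 5 = 1 := by rw [← hu, pow_orderOf_eq_one]
  have hu1 : u ≠ 1 := by rintro rfl; rw [orderOf_one] at hu; norm_num at hu
  obtain ⟨T0, hT0⟩ := Sylow.exists_subgroup_card_pow_prime 2 hd
  let P : Subgroup G := T0.map (centralizer ({u} : Set G)).subtype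
  have hP : Nat.card P = 2 ^ 14 := by
    rw [card_map_of_injective (subtype_injective _), hT0]
  have hPu : ∀ g ∈ P, g * u = u * g := by
    rintro _ ⟨g, -, rfl⟩
    exact mem_centralizer_singleton_iff.1 g.2
  obtain ⟨d0, hd0, hd0'⟩ := C.ex5 u hu5 hu1
  have h10 := (C.five_far hu5 hu1 (d := d0) ⟨hd0, hd0'⟩).1
  obtain ⟨d, hd, P1, hP1, hP1d, h1⟩ := exists_small_set (k := 1) (IsPGroup.of_card hP) (S := Fx (Cfsg.Agent.KFacts.FiTT.TK e) u)
    (by rw [h10]; decide) (fun g hg s hs => C.fx_conj (hPu g hg) hs)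
  have h3 := C.five_link hu5 hu1 hd
  have hP1p : IsPGroup 2 ↥P1 := (IsPGroup.of_card hP : IsPGroup 2 ↥P).to_le hP1
  let S : Set G := {c | c ∈ Fx (Cfsg.Agent.KFacts.FiTT.TK e) u ∧ c ≠ d ∧ d * c = c * d}
  have hS : ∀ g ∈ P1, ∀ c ∈ S, g * c * g⁻¹ ∈ S := by
    rintro g hg c ⟨hc, hcd, hdc⟩
    refine ⟨C.fx_conj (hPu g (hP1 hg)) hc, fun h => hcd ?_, conj_of_comm (hP1d g hg) hdc⟩
    have h4 : g * c = d * g := mul_inv_eq_iff_eq_mul.1 h
    rw [← hP1d g hg] at h4
    exact mul_left_cancel h4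
  -- the kernel on the three transpositions
  let f := actHom P1 S hS
  have h4 : Nat.card P1 ∣ Nat.card f.ker * 6 := by
    have h5 := card_dvd_ker_mul f
    have h6 : Nat.card (Equiv.Perm ↥S) = 6 := by
      rw [Nat.card_perm, show Nat.card ↥S = 3 from h3]; rfl
    rwa [h6] at h5
  have h5 : 2 ^ 12 ∣ Nat.card f.ker := by
    have h6 : 2 ^ 13 ∣ Nat.card P1 := by
      rw [hP] at h1
      have h7 : 2 ^ 13 * 2 ^ 1 ∣ Nat.card P1 * 2 ^ 1 := by rw [← pow_add]; exact h1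
      exact Nat.dvd_of_mul_dvd_mul_right (by norm_num) h7
    have h7 := h6.trans h4
    have h8 : 2 * 2 ^ 12 ∣ 2 * (Nat.card f.ker * 3) := by
      have e1 : 2 * (Nat.card f.ker * 3) = Nat.card f.ker * 6 := by ring
      rw [e1]; exact h7
    exact Nat.Coprime.dvd_of_dvd_mul_right (by norm_num) (Nat.dvd_of_mul_dvd_mul_left (by norm_num) h8)
  -- two of them
  have h6 : ∃ a ∈ S, ∃ b ∈ S, a ≠ b := by
    have h7 : 1 < S.ncard := by rw [show S.ncard = 3 from h3]; norm_num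
    obtain ⟨a, b, ha, hb, hab⟩ := (Set.one_lt_ncard_iff (Set.toFinite _)).1 h7
    exact ⟨a, ha, b, hb, hab⟩
  obtain ⟨a, ha, b, hb, hab⟩ := h6
  have hnc : a * b ≠ b * a := by
    intro hc
    exact hab ((C.iso5 u hu5 hu1 d hd.1 hd.2).2 a ha.1.1 b hb.1.1 ha.2.1 hb.2.1 ha.2.2 hb.2.2 ha.1.2 hb.1.2 hc)
  have h7 := C.card_cent_two ha.1.1 hb.1.1 hnc
  have h8 : Nat.card f.ker ∣ 6531840 := by
    rw [← h7, ← card_map_of_injective (K := f.ker) P1.subtype_injective]
    apply card_dvd_of_le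
    rintro _ ⟨k, hk, rfl⟩
    have h9 : ∀ s : ↥S, (k : G) * s = s * k := by
      intro s
      have h10 := actHom_apply P1 S hS k s
      rw [show actHom P1 S hS k = 1 from hk] at h10
      exact (mul_inv_eq_iff_eq_mul.1 h10.symm)
    exact ⟨mem_centralizer_singleton_iff.2 (h9 ⟨a, ha⟩), mem_centralizer_singleton_iff.2 (h9 ⟨b, hb⟩)⟩
  have h9 := h5.trans h8
  norm_num at h9

/-- no 5-subgroup is normalised by a Sylow 2-subgroup, and the centralizers of the elements of order 13 -/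
theorem two_fi22 {G : Type u} [Group G] (h : Cfsg.Spor.IsoFi22 G) :
    Inv1 2 5 G ∧ ∀ y : G, orderOf y = 13 → ¬ 2 ^ 11 ∣ Nat.card (centralizer ({y} : Set G)) := by
  have h' := h
  obtain ⟨e⟩ := h
  have C := Inst.ctx e
  have hfin : Finite G := Nat.finite_of_card_ne_zero (by rw [C.card]; norm_num)
  refine ⟨?_, ?_⟩
  · refine inv1_of_cent (a := 14) (b := 2) (w := 3) (by norm_num) (by norm_num) (by rw [C.card]; norm_num)
      (by rw [C.card]; norm_num) (fun k h1 h2 => by interval_cases k <;> norm_num) fun y hy => fi22_five h' hy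
  · intro y hy hd
    obtain ⟨x, hx, hxy⟩ := exists_of_dvd_cent Nat.prime_two ((dvd_pow_self 2 (by norm_num)).trans hd)
    have h1 := Cfsg.Agent.PreUniqCo.FiTwentyTwo.thirteen e hy hxy
    have h2 := orderOf_dvd_of_pow_eq_one h1
    rw [hx] at h2
    norm_num at h2

end Cfsg.Agent.H573.Hall
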