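import Cfsg.Agent.H573.Hall.Lib
import Cfsg.Agent.LThreeFi23.CentUu
import Cfsg.Agent.BpSpor.FiTThFive

/-!
# Hall subgroups of odd order of `Fi23` (helper573)

* `card_pair` : two transpositions which do not commute are centralized by a subgroup of order `|O7(3)|`
* `card_five`, `card_thirteen` : centralizers of the elements of order 5, 13
* `inv_fi23`, `odd_fi23`
-/

set_option autoImplicit false
set_option maxRecDepth 100000

namespace Cfsg.Agent.H573.Hall.F23

open Subgroup Cfsg Cfsg.Agent.H171.Odd Cfsg.Agent.H553.OddHall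
open Cfsg.Agent.LThreeFi23
open Cfsg.Agent.Fischer.Fi23Hom (rho)
open Cfsg.Agent.CpAutFiSeven (Tri)

universe u

theorem fin : Finite Cfsg.Spor.Fi23 := Nat.finite_of_card_ne_zero (by rw [card_G]; norm_num)

/-- a subgroup centralizing two transpositions which do not commute -/
theorem card_pair {p q : ℕ} (hp : p < 31671) (hq : q < 31671) (h : ¬ Com p q) {K : Type*} [Group K]
    (f : K →* Cfsg.Spor.Fi23) (hf : Function.Injective f) (h1 : ∀ k, f k * T p = T p * f k)
    (h2 : ∀ k, f k * T q = T q * f k) : Nat.card K ∣ 4585351680 := by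
  obtain ⟨g, hg, hg'⟩ := pair_trans (p := 0) (q := 8006) (by norm_num) (by norm_num) hp hq ncom_zj h
  have hc : ∀ k : K, g⁻¹ * f k * g ∈ CC := by
    intro k
    have e1 : T p = g * el .z * g⁻¹ := by rw [← hg, T_act g (by norm_num), T0]
    have e2 : T q = g * el .j * g⁻¹ := by rw [← hg', T_act g (by norm_num), T8006]
    rw [mem_CC]
    have a1 := h1 k
    have a2 := h2 k
    rw [e1] at a1
    rw [e2] at a2
    constructor
    · calc g⁻¹ * f k * g * el .z = g⁻¹ * (f k * (g * el .z * g⁻¹)) * g := by group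
        _ = el .z * (g⁻¹ * f k * g) := by rw [a1]; group
    · calc g⁻¹ * f k * g * el .j = g⁻¹ * (f k * (g * el .j * g⁻¹)) * g := by group
        _ = el .j * (g⁻¹ * f k * g) := by rw [a2]; group
  let φ : K →* ↥CC := ((MulAut.conj g⁻¹).toMonoidHom.comp f).codRestrict CC (fun k => by
    have := hc k
    change g⁻¹ * f k * g⁻¹⁻¹ ∈ CC
    rwa [inv_inv])
  have hφ : Function.Injective φ := by
    intro a b hab
    have h3 := congrArg Subtype.val hab
    exact hf ((MulAut.conj g⁻¹).injective h3)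
  rw [← card_CC]
  exact card_dvd_of_injective φ hφ

/-- the centralizer of an element of order 5 -/
theorem card_five {y : Cfsg.Spor.Fi23} (hy : orderOf y = 5) :
    Nat.card (centralizer ({y} : Set Cfsg.Spor.Fi23)) ∣ 4585351680 * 5040 := by
  have hF := fin
  have hy5 : y ^ 5 = 1 := by rw [← hy, pow_orderOf_eq_one]
  have hy1 : y ≠ 1 := by rintro rfl; rw [orderOf_one] at hy; norm_num at hy
  obtain ⟨g, i, hg⟩ := conj_five hy5
  rw [card_cent_of_conj_zpow Nat.prime_five pow5 hy1 hg]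
  obtain ⟨f, hf⟩ := BpSpor.Fi23.tri0.exists_hom BpSpor.Fi23.L_conj (centralizer ({elw y5} : Set Cfsg.Spor.Fi23)).subtype
    (fun g => mem_centralizer_singleton_iff.1 g.2)
  refine (card_dvd_ker_mul f).trans ?_
  have e : Nat.card (Equiv.Perm (Fin 7)) = 5040 := by
    rw [Nat.card_perm, Nat.card_fin]; rfl
  rw [e]
  refine mul_dvd_mul_right ?_ _
  have h3 : ∀ k : ↥f.ker, ∀ i j, i ≠ j →
      ((k : ↥(centralizer ({elw y5} : Set Cfsg.Spor.Fi23))) : Cfsg.Spor.Fi23) * BpSpor.Fi23.t0 i j =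
        BpSpor.Fi23.t0 i j * ((k : ↥(centralizer ({elw y5} : Set Cfsg.Spor.Fi23))) : Cfsg.Spor.Fi23) := by
    intro k i j hij
    have h1 := hf k.1 i j hij
    rw [MonoidHom.mem_ker.1 k.2] at h1
    exact mul_inv_eq_iff_eq_mul.1 h1
  have hn := BpSpor.Fi23.tri0.not_comm (i := 0) (j := 1) (k := 2) (by decide) (by decide) (by decide)
  unfold BpSpor.Fi23.t0 at hn h3
  refine card_pair (BpSpor.Fi23.Chk.chkLt _ (BpSpor.Fi23.Chk.chkIx 0 1).1) (BpSpor.Fi23.Chk.chkLt _ (BpSpor.Fi23.Chk.chkIx 0 2).1)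
    (fun hc => hn ((com_iff (BpSpor.Fi23.Chk.chkLt _ (BpSpor.Fi23.Chk.chkIx 0 2).1)).1 hc))
    ((centralizer ({elw y5} : Set Cfsg.Spor.Fi23)).subtype.comp f.ker.subtype)
    (Subtype.val_injective.comp Subtype.val_injective) (fun k => h3 k 0 1 (by decide))
    (fun k => h3 k 0 2 (by decide))

/-- the three points fixed by `y13` -/
abbrev X3 : Type := {p : ℕ // p ∈ [0, 1, 8006]}

theorem x3_iff (p : ℕ) : (p < 31671 ∧ rho (elw y13) p = p) ↔ p ∈ [0, 1, 8006] := by
  rw [← pchk_mem e_y13]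
  refine and_congr_right fun _ => ?_
  constructor
  · intro h c hc
    simp only [List.mem_cons, List.not_mem_nil, or_false] at hc
    subst hc
    simpa using h
  · intro h
    have := h _ (List.mem_cons_self ..)
    simpa using this

/-- the centralizer of an element of order 13 -/
theorem card_thirteen {y : Cfsg.Spor.Fi23} (hy : orderOf y = 13) :
    Nat.card (centralizer ({y} : Set Cfsg.Spor.Fi23)) ∣ 4585351680 * 6 := by
  have hF := fin
  have hy5 : y ^ 13 = 1 := by rw [← hy, pow_orderOf_eq_one]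
  have hy1 : y ≠ 1 := by rintro rfl; rw [orderOf_one] at hy; norm_num at hy
  obtain ⟨g, i, hg⟩ := conj_thirteen hy5
  rw [card_cent_of_conj_zpow (by norm_num) pow13 hy1 hg]
  have hp : ∀ w : ↥(centralizer ({elw y13} : Set Cfsg.Spor.Fi23)), ∀ p : ℕ, rho (w : Cfsg.Spor.Fi23) p ∈ [0, 1, 8006] ↔ p ∈ [0, 1, 8006] := by
    have h1 : ∀ w : ↥(centralizer ({elw y13} : Set Cfsg.Spor.Fi23)), ∀ p : ℕ, p ∈ [0, 1, 8006] →
        rho (w : Cfsg.Spor.Fi23) p ∈ [0, 1, 8006] := by
      intro w p hp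
      rw [← x3_iff] at hp ⊢
      exact ⟨act_lt _ hp.1, fix_of_comm_fix (mem_centralizer_singleton_iff.1 w.2).symm hp.2⟩
    intro w p
    refine ⟨fun h => ?_, h1 w p⟩
    have h2 := h1 w⁻¹ _ h
    rwa [← Equiv.Perm.mul_apply, ← map_mul, Subgroup.coe_inv, inv_mul_cancel, map_one] at h2
  let f : ↥(centralizer ({elw y13} : Set Cfsg.Spor.Fi23)) →* Equiv.Perm X3 :=
    MonoidHom.mk' (fun w => (rho (w : Cfsg.Spor.Fi23)).subtypePerm (fun p => (hp w p))) (by
      intro a b
      ext p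
      change rho ((a * b : ↥(centralizer ({elw y13} : Set Cfsg.Spor.Fi23))) : Cfsg.Spor.Fi23) p =
        rho (a : Cfsg.Spor.Fi23) (rho (b : Cfsg.Spor.Fi23) p)
      rw [Subgroup.coe_mul, map_mul, Equiv.Perm.mul_apply])
  have hf : ∀ w p, ((f w p : X3) : ℕ) = rho (w : Cfsg.Spor.Fi23) p := fun w p => rfl
  refine (card_dvd_ker_mul f).trans ?_
  have e : Nat.card (Equiv.Perm X3) = 6 := by
    have e1 : Nat.card X3 = 3 := by
      rw [Nat.card_eq_fintype_card]; rfl
    rw [Nat.card_perm, e1]; rfl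
  rw [e]
  refine mul_dvd_mul_right ?_ _
  have h3 : ∀ k : ↥f.ker, ∀ p, p ∈ [0, 1, 8006] →
      rho ((k : ↥(centralizer ({elw y13} : Set Cfsg.Spor.Fi23))) : Cfsg.Spor.Fi23) p = p := by
    intro k p hp
    have h1 := hf k.1 ⟨p, hp⟩
    rw [MonoidHom.mem_ker.1 k.2] at h1
    exact h1.symm
  refine card_pair (p := 0) (q := 8006) (by norm_num) (by norm_num) ncom_zj
    ((centralizer ({elw y13} : Set Cfsg.Spor.Fi23)).subtype.comp f.ker.subtype)
    (Subtype.val_injective.comp Subtype.val_injective) (fun k => (fix_iff _ (by norm_num)).1 (h3 k 0 (by decide)))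
    (fun k => (fix_iff _ (by norm_num)).1 (h3 k 8006 (by decide)))

theorem tel_of_order {x : Cfsg.Spor.Fi23} (hx : orderOf x = 3) : Tel x := Tel.of_three (by rw [← hx, pow_orderOf_eq_one])

theorem ne_of_order {x : Cfsg.Spor.Fi23} {n : ℕ} (h : 1 < n) (hx : orderOf x = n) : x ≠ 1 := by
  rintro rfl
  rw [orderOf_one] at hx
  omega

/-- elements of order 3 commuting with an element of order 7 or 13 -/
theorem uu_of {r : ℕ} (hr : r = 7 ∨ r = 13) {x y : Cfsg.Spor.Fi23} (hx : orderOf x = 3) (hy : orderOf y = r)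
    (hxy : x * y = y * x) : IsConj x uu := by
  have hyr : y ^ r = 1 := by rw [← hy, pow_orderOf_eq_one]
  have hx1 : x ≠ 1 := ne_of_order (by norm_num) hx
  rcases hr with rfl | rfl
  · have hy1 : y ≠ 1 := ne_of_order (by norm_num) hy
    obtain ⟨g, i, hg⟩ := conj_seven hyr
    obtain ⟨k, m, hk⟩ := r7 (conj_Tel (tel_of_order hx) g) (comm_of_conj_zpow (by norm_num) pow7 hy1 hxy hg)
    exact (isConj_of_conj g (isConj_of_conj k (class_uu hk (conj_ne (conj_ne hx1 g) k))))
  · have hy1 : y ≠ 1 := ne_of_order (by norm_num) hy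
    obtain ⟨g, i, hg⟩ := conj_thirteen hyr
    obtain ⟨m, hk⟩ := r13 (conj_Tel (tel_of_order hx) g) (comm_of_conj_zpow (by norm_num) pow13 hy1 hxy hg)
    exact (isConj_of_conj g (class_uu hk (conj_ne hx1 g)))

/-- no element of order 3 commutes with an element of order 11, 17 or 23 -/
theorem no_three {r : ℕ} (hr : r = 11 ∨ r = 17 ∨ r = 23) {x y : Cfsg.Spor.Fi23} (hx : orderOf x = 3) (hy : orderOf y = r)
    (hxy : x * y = y * x) : False := by
  have hyr : y ^ r = 1 := by rw [← hy, pow_orderOf_eq_one]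
  have hx1 : x ≠ 1 := ne_of_order (by norm_num) hx
  rcases hr with rfl | rfl | rfl
  · have hy1 : y ≠ 1 := ne_of_order (by norm_num) hy
    obtain ⟨g, i, hg⟩ := conj_eleven hyr
    exact absurd (r11 (conj_Tel (tel_of_order hx) g) (comm_of_conj_zpow (by norm_num) pow11 hy1 hxy hg)) (conj_ne hx1 g)
  · have hy1 : y ≠ 1 := ne_of_order (by norm_num) hy
    obtain ⟨g, i, hg⟩ := conj_seventeen hyr
    exact absurd (r17 (conj_Tel (tel_of_order hx) g) (comm_of_conj_zpow (by norm_num) pow17 hy1 hxy hg)) (conj_ne hx1 g)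
  · have hy1 : y ≠ 1 := ne_of_order (by norm_num) hy
    obtain ⟨g, i, hg⟩ := conj_twentythree hyr
    exact absurd (r23 (conj_Tel (tel_of_order hx) g) (comm_of_conj_zpow (by norm_num) pow23 hy1 hxy hg)) (conj_ne hx1 g)

theorem inv_model : Inv1 3 5 Cfsg.Spor.Fi23 ∧ Inv1 3 7 Cfsg.Spor.Fi23 ∧ Inv1 3 11 Cfsg.Spor.Fi23 ∧
    Inv1 3 13 Cfsg.Spor.Fi23 ∧ Inv1 3 23 Cfsg.Spor.Fi23 := by
  have hF := fin
  have hnc : ∀ r : ℕ, r.Prime → (r = 7 ∨ r = 13) → ∀ x : Cfsg.Spor.Fi23, orderOf x = 3 →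
      3 ^ 13 ∣ Nat.card (centralizer ({x} : Set Cfsg.Spor.Fi23)) →
      ¬ r ∣ Nat.card (centralizer ({x} : Set Cfsg.Spor.Fi23)) := by
    intro r hr hr' x hx hd
    refine not_dvd_cent hr fun y hy hxy => ?_
    have h1 := uu_of hr' hx hy hxy.symm
    rw [card_cent_of_isConj h1, card_C] at hd
    norm_num at hd
  have hno : ∀ r : ℕ, (r = 11 ∨ r = 17 ∨ r = 23) → ∀ y : Cfsg.Spor.Fi23, orderOf y = r →
      ¬ 3 ^ 1 ∣ Nat.card (centralizer ({y} : Set Cfsg.Spor.Fi23)) := by
    intro r hr y hy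
    rw [pow_one]
    exact not_dvd_cent (by norm_num) fun x hx hxy => no_three hr hx hy hxy
  refine ⟨?_, ?_, ?_, ?_, ?_⟩
  · refine inv1_of_cent (a := 12) (b := 2) (w := 1) (by norm_num) (by norm_num) (by rw [card_G]; norm_num)
      (by rw [card_G]; norm_num) (fun k h1 h2 => by interval_cases k <;> norm_num) fun y hy hd => ?_
    have := hd.trans (card_five hy)
    norm_num at this
  · refine inv1_of_nc (a := 13) (b := 1) (by norm_num) (by norm_num) (by norm_num) (by rw [card_G]; norm_num)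
      (by rw [card_G]; norm_num) (fun _ => 1) (fun k h1 h2 => by interval_cases k; norm_num)
      (by norm_num) (hnc 7 (by norm_num) (by norm_num))
  · refine inv1_of_cent (a := 1) (b := 1) (w := 0) (by norm_num) (by norm_num) (by rw [card_G]; norm_num)
      (by rw [card_G]; norm_num) (fun k h1 h2 => by interval_cases k; norm_num) (hno 11 (by norm_num))
  · refine inv1_of_nc (a := 13) (b := 1) (by norm_num) (by norm_num) (by norm_num) (by rw [card_G]; norm_num)
      (by rw [card_G]; norm_num) (fun _ => 1) (fun k h1 h2 => by interval_cases k; norm_num)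
      (by norm_num) (hnc 13 (by norm_num) (by norm_num))
  · refine inv1_of_cent (a := 1) (b := 1) (w := 0) (by norm_num) (by norm_num) (by rw [card_G]; norm_num)
      (by rw [card_G]; norm_num) (fun k h1 h2 => by interval_cases k; norm_num) (hno 23 (by norm_num))

end Cfsg.Agent.H573.Hall.F23

namespace Cfsg.Agent.H573.Hall

open Subgroup Cfsg Cfsg.Agent.H171.Odd Cfsg.Agent.H553.OddHall

universe u

theorem inv_fi23 {G : Type u} [Group G] (h : Cfsg.Spor.IsoFi23 G) :
    Inv1 3 5 G ∧ Inv1 3 7 G ∧ Inv1 3 11 G ∧ Inv1 3 13 G ∧ Inv1 3 23 G := by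
  obtain ⟨e⟩ := h
  obtain ⟨h5, h7, h11, h13, h23⟩ := F23.inv_model
  exact ⟨Inv1.congr e h5, Inv1.congr e h7, Inv1.congr e h11, Inv1.congr e h13, Inv1.congr e h23⟩

theorem odd_fi23 {G : Type u} [Group G] [Finite G] [IsSimpleGroup G] (hna : ¬ IsMulCommutative G)
    (hind : OddInd G) (h : Cfsg.Spor.IsoFi23 G) : OddC G := by
  obtain ⟨h5, h7, h11, h13, h23⟩ := inv_fi23 h
  obtain ⟨e⟩ := h
  refine oddC_of_cert hna hind ((Nat.card_congr e.toEquiv).trans LThreeFi23.card_G)
    (L := [(3, 13), (5, 2), (7, 1), (11, 1), (13, 1), (17, 1), (23, 1)])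
    (T := [(3, 5), (3, 7), (3, 11), (3, 13), (3, 23)]) ?_ ?_ (by decide +kernel)
  · simp; norm_num
  · simp only [List.mem_cons, List.not_mem_nil, or_false]
    rintro x (rfl | rfl | rfl | rfl | rfl)
    exacts [h5, h7, h11, h13, h23]

/-- no 5-subgroup is normalised by a Sylow 2-subgroup, and the centralizers of the elements of order 13 -/
theorem two_fi23 {G : Type u} [Group G] (h : Cfsg.Spor.IsoFi23 G) :
    Inv1 2 5 G ∧ ∀ y : G, orderOf y = 13 → ¬ 2 ^ 12 ∣ Nat.card (centralizer ({y} : Set G)) := by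
  obtain ⟨e⟩ := h
  have hF := F23.fin
  refine ⟨Inv1.congr e ?_, ?_⟩
  · refine inv1_of_cent (a := 15) (b := 2) (w := 3) (by norm_num) (by norm_num) (by rw [LThreeFi23.card_G]; norm_num)
      (by rw [LThreeFi23.card_G]; norm_num) (fun k h1 h2 => by interval_cases k <;> norm_num) fun y hy hd => ?_
    have := hd.trans (F23.card_five hy)
    norm_num at this
  · intro y hy hd
    have h1 : orderOf (e y) = 13 := by rw [MulEquiv.orderOf_eq, hy]
    rw [card_cent_equiv e] at hd
    have := hd.trans (F23.card_thirteen h1)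
    norm_num at this

end Cfsg.Agent.H573.Hall
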