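import Cfsg.Agent.J2.HundredGens
import Cfsg.Agent.S1619
import Cfsg.Agent.H573.Hall.Lib
import Cfsg.Agent.H573.Hall.Orb
import Cfsg.Agent.H171.Odd.Tools

/-!
# `J₂` at 5 and 7 (helper573)

* `comm_five` : two commuting elements of order 5 generating a noncyclic group;
* `inv57` : `Inv1 5 7`.
-/

set_option autoImplicit false
set_option maxRecDepth 100000

namespace Cfsg.Agent.H573.Hall.JTwo

open Subgroup Cfsg Cfsg.Agent.H171.Odd
open Cfsg.Agent.J2.HundredGens Cfsg.Agent.SporadicA.J2Hundred

/-- the element of a word -/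
noncomputable def el (L : List ℕ) : G := ⟨pw L, pw_mem L⟩

theorem el_eq {L M : List ℕ} (h : chk L M = true) : el L = el M := Subtype.ext (pw_eq h)

theorem el_mul (L M : List ℕ) : el L * el M = el (L ++ M) := Subtype.ext (pw_mul L M)

theorem el_nil : el [] = 1 := Subtype.ext pw_nil

theorem el_ne {L M : List ℕ} (i : Fin 100) (h : Nat.beq (run L i) (run M i) = false) : el L ≠ el M := by
  intro he
  rw [← pw_val, ← pw_val, show pw L = pw M from congrArg Subtype.val he, Nat.beq_refl] at h
  exact absurd h (by decide)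

/-- the two words -/
def a1 : List ℕ := wX ++ (wV ++ wA)
def b1 : List ℕ := wZ ++ (wL ++ wY)

theorem comm : el a1 * el b1 = el b1 * el a1 := by
  rw [el_mul, el_mul]; exact el_eq (by decide +kernel)

theorem pow_five {L : List ℕ} (h : chk (L ++ (L ++ (L ++ (L ++ L)))) [] = true) : el L ^ 5 = 1 := by
  rw [show (5 : ℕ) = 0 + 1 + 1 + 1 + 1 + 1 from rfl]
  simp only [pow_succ', pow_zero, mul_one, el_mul]
  rw [el_eq h, el_nil]

theorem a_pow : el a1 ^ 5 = 1 := pow_five (by decide +kernel)
theorem b_pow : el b1 ^ 5 = 1 := pow_five (by decide +kernel)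

theorem a_ord : orderOf (el a1) = 5 := by
  have : Fact (Nat.Prime 5) := ⟨by norm_num⟩
  exact orderOf_eq_prime a_pow (by rw [← el_nil]; exact el_ne 0 (by decide +kernel))

theorem b_ord : orderOf (el b1) = 5 := by
  have : Fact (Nat.Prime 5) := ⟨by norm_num⟩
  exact orderOf_eq_prime b_pow (by rw [← el_nil]; exact el_ne 0 (by decide +kernel))

theorem b_notMem : el b1 ∉ zpowers (el a1) := by
  intro h
  rw [← mem_powers_iff_mem_zpowers, (isOfFinOrder_of_finite (el a1)).mem_powers_iff_mem_range_orderOf, a_ord] at h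
  simp only [Finset.mem_image, Finset.mem_range] at h
  obtain ⟨k, hk, h⟩ := h
  interval_cases k
  · rw [pow_zero, ← el_nil] at h
    exact el_ne 0 (by decide +kernel) h
  · rw [pow_one] at h
    exact el_ne 0 (by decide +kernel) h
  · rw [pow_two, el_mul] at h
    exact el_ne 0 (by decide +kernel) h
  · rw [pow_succ, pow_two, el_mul, el_mul] at h
    exact el_ne 0 (by decide +kernel) h
  · rw [pow_succ, pow_succ, pow_two, el_mul, el_mul, el_mul] at h
    exact el_ne 0 (by decide +kernel) h

instance instFiniteG : Finite G := Nat.finite_of_card_ne_zero (by rw [card_G]; norm_num)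

theorem card_stab (v : Fin 100) : Nat.card (MulAction.stabilizer G v) = 6048 := by
  have h2 : MulAction.orbit G v = Set.univ := by
    rw [Set.eq_univ_iff_forall]
    intro w
    obtain ⟨g, hg, h3⟩ := trans v
    obtain ⟨k, hk, h4⟩ := trans w
    refine ⟨⟨k, hk⟩ * ⟨g, hg⟩⁻¹, ?_⟩
    show k (g.symm v) = w
    rw [← h3, Equiv.symm_apply_apply, h4]
  have h3 : Nat.card (MulAction.orbit G v) = 100 := by
    rw [h2, Nat.card_congr (Equiv.Set.univ _), Nat.card_eq_fintype_card, Fintype.card_fin]
  have h4 : Nat.card (MulAction.orbit G v) * Nat.card (MulAction.stabilizer G v) = Nat.card G := by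
    rw [← Nat.card_prod]
    exact Nat.card_congr (MulAction.orbitProdStabilizerEquivGroup G v)
  rw [h3, card_G] at h4
  omega

theorem not_dvd_cent {y : G} (hy : orderOf y = 7) : ¬ 5 ^ 2 ∣ Nat.card (centralizer ({y} : Set G)) := by
  classical
  have h5 : Fact (Nat.Prime 5) := ⟨by norm_num⟩
  have h7 : Fact (Nat.Prime 7) := ⟨by norm_num⟩
  intro hd
  obtain ⟨P, hP⟩ := Sylow.exists_subgroup_card_pow_prime 5 hd
  have hPc : ∀ g : P, ∀ v : Fin 100, ((y : Equiv.Perm (Fin 100)) ((((g : centralizer ({y} : Set G)) : G) :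
      Equiv.Perm (Fin 100)) v)) = (((g : centralizer ({y} : Set G)) : G) : Equiv.Perm (Fin 100))
        ((y : Equiv.Perm (Fin 100)) v) := by
    intro g v
    have h1 : ((g : centralizer ({y} : Set G)) : G) * y = y * ((g : centralizer ({y} : Set G)) : G) :=
      mem_centralizer_singleton_iff.1 (g : centralizer ({y} : Set G)).2
    have h2 := congrArg (fun p : G => (p : Equiv.Perm (Fin 100)) v) h1
    exact h2.symm
  let F := {v : Fin 100 // (y : Equiv.Perm (Fin 100)) v = v}
  let act : MulAction P F :=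
    { smul := fun g v => ⟨(((g : centralizer ({y} : Set G)) : G) : Equiv.Perm (Fin 100)) v.1, by rw [hPc, v.2]⟩
      one_smul := fun v => Subtype.ext rfl
      mul_smul := fun g h v => Subtype.ext rfl }
  -- the number of fixed points
  have h1 : 5 ^ 2 ∣ Nat.card F := by
    by_contra hn
    obtain ⟨v, hv⟩ := exists_small (T := P) (X := F) (IsPGroup.of_card hP) hn
    have h2 : 5 ∣ Nat.card (MulAction.stabilizer P v) := by
      rw [hP, pow_two, pow_one] at hv
      exact Nat.dvd_of_mul_dvd_mul_right (by norm_num) hv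
    have h3 : Nat.card (MulAction.stabilizer P v) ∣ 6048 := by
      rw [← card_stab v.1]
      let f : MulAction.stabilizer P v →* MulAction.stabilizer G v.1 :=
        { toFun := fun g => ⟨((g : P) : centralizer ({y} : Set G)), congrArg Subtype.val g.2⟩
          map_one' := rfl
          map_mul' := fun _ _ => rfl }
      refine card_dvd_of_injective f ?_
      intro g h hgh
      exact Subtype.ext (Subtype.ext (Subtype.ext (congrArg (fun k : MulAction.stabilizer G v.1 => (k : G)) hgh)))
    have h4 := h2.trans h3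
    revert h4
    norm_num
  have h2 : Nat.card (Fin 100) ≡ Nat.card (MulAction.fixedPoints (zpowers y) (Fin 100)) [MOD 7] :=
    IsPGroup.card_modEq_card_fixedPoints (p := 7) (G := zpowers y)
      (IsPGroup.of_card (n := 1) (by rw [Nat.card_zpowers, hy, pow_one])) (Fin 100)
  have h3 : Nat.card (MulAction.fixedPoints (zpowers y) (Fin 100)) = Nat.card F := by
    refine Nat.card_congr (Equiv.subtypeEquivRight fun v => ?_)
    rw [MulAction.mem_fixedPoints]
    constructor
    · intro h
      exact h ⟨y, mem_zpowers y⟩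
    · rintro h ⟨g, hg⟩
      obtain ⟨i, rfl⟩ := mem_zpowers_iff.1 hg
      show ((y ^ i : G) : Equiv.Perm (Fin 100)) v = v
      rw [SubgroupClass.coe_zpow]
      exact Function.IsFixedPt.perm_zpow h i
  have h4 : Nat.card F ≤ 100 := by
    have := Nat.card_le_card_of_injective (Subtype.val : F → Fin 100) Subtype.val_injective
    simpa using this
  rw [h3, Nat.card_eq_fintype_card, Fintype.card_fin] at h2
  have h5' : Nat.card F = 100 := by
    obtain ⟨k, hk⟩ := h1
    rw [hk] at h2 h4 ⊢
    have hk4 : k ≤ 4 := by omega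
    interval_cases k <;> revert h2 <;> decide
  have h6 : (y : Equiv.Perm (Fin 100)) = 1 := by
    ext v
    by_contra hne
    have h7' : Nat.card F < Nat.card (Fin 100) := by
      rw [Nat.card_eq_fintype_card, Nat.card_eq_fintype_card]
      exact Fintype.card_subtype_lt (x := v) (fun h => hne (by rw [h]; rfl))
    rw [h5', Nat.card_eq_fintype_card, Fintype.card_fin] at h7'
    omega
  have h7' : y = 1 := Subtype.ext h6
  rw [h7', orderOf_one] at hy
  norm_num at hy

variable {A : Type*} [Group A]

/-- two commuting elements of order 5 -/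
theorem comm_five (h : Spor.IsoJ2 A) : ∃ a b : A, orderOf a = 5 ∧ orderOf b = 5 ∧ a * b = b * a ∧ b ∉ zpowers a := by
  obtain ⟨e⟩ := h
  obtain ⟨f⟩ := J2_iso Cfsg.Agent.S1619.result.2.2.2
  let g : G ≃* A := (e.trans f).symm
  refine ⟨g (el a1), g (el b1), ?_, ?_, ?_, ?_⟩
  · rw [MulEquiv.orderOf_eq, a_ord]
  · rw [MulEquiv.orderOf_eq, b_ord]
  · rw [← map_mul, ← map_mul, comm]
  · intro h1
    obtain ⟨i, hi⟩ := mem_zpowers_iff.1 h1
    rw [← map_zpow] at hi
    exact b_notMem (mem_zpowers_iff.2 ⟨i, g.injective hi⟩)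

/-- **`Inv1 5 7` for `J₂`** -/
theorem inv57 (h : Spor.IsoJ2 A) : Inv1 5 7 A := by
  obtain ⟨e⟩ := h
  obtain ⟨f⟩ := J2_iso Cfsg.Agent.S1619.result.2.2.2
  refine Inv1.congr (e.trans f) ?_
  exact inv1_of_cent (a := 2) (b := 1) (w := 0) (by norm_num) (by norm_num) (by rw [card_G]; norm_num)
    (by rw [card_G]; norm_num) (by decide) fun y hy => not_dvd_cent hy

end Cfsg.Agent.H573.Hall.JTwo
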