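import Cfsg.Agent.H573.Hall.RadBot
import Cfsg.Agent.H381.Tools

/-!
# `Inv1 5 7` in the situation `Rad` (helper573)

`V` a normal `7`-subgroup inverted by `z = k ^ 2`: `|V| = 7 ^ n`, `n` even, `n ≤ 4`; two commuting elements of order 5 of `A`
generate a noncyclic group, so one of them centralises `V`.
-/

set_option autoImplicit false

namespace Cfsg.Agent.H573.Hall.RadInv

open Subgroup Cfsg Cfsg.Agent.BpSpor.M5 Cfsg.Agent.H171.Odd

universe u v

variable {D : Type u} [Group D] [Finite D] {z x : D} {N : Subgroup D} {A : Type v} [Group A]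
  [hA : IsSimpleGroup A] {f : ↥(centralizer ({z} : Set D)) →* A}

local instance : Fact (Nat.Prime 5) := ⟨Nat.prime_five⟩

/-- a normal `r`-subgroup of `N`: its order times that of `A` -/
theorem card_mul_dvd {p : ℕ} [hp : Fact p.Prime] (h : Rad p z x N f) (hAc : ¬ Group.IsSolvable A) {V : Subgroup D}
    (hVN : V ≤ N) : Nat.card ↥V * Nat.card A ∣ Nat.card D := by
  obtain ⟨ψ, hψ, -, hψN, -⟩ := exists_map h hAc
  have h1 : V ≤ ψ.ker := fun v hv => hψN v (hVN hv)
  have h2 : Nat.card D = Nat.card ↥ψ.ker * Nat.card A := by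
    rw [← ψ.ker.card_mul_index, Subgroup.index_ker, MonoidHom.range_eq_top.2 hψ, card_top]
  rw [h2]
  exact Nat.mul_dvd_mul_right (card_dvd_of_le h1) _

/-- the order of an `r`-group inverted by the square `z` -/
theorem four_dvd {D : Type u} [Group D] [Finite D] {z : D} {k : D} (hk : k * k = z) (hzz : z * z = 1) (hz1 : z ≠ 1)
    {V : Subgroup D} (hn : V.Normal) (hodd : Odd (Nat.card ↥V)) (hz : ∀ v ∈ V, z * v * z⁻¹ = v⁻¹) :
    4 ∣ Nat.card ↥V - 1 := by
  have h2 : Fact (Nat.Prime 2) := ⟨Nat.prime_two⟩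
  by_contra h4
  have hk4 : orderOf k = 2 ^ 2 := by
    refine orderOf_eq_prime_pow (p := 2) (n := 1) ?_ ?_
    · rw [pow_one, pow_two, hk]; exact hz1
    · rw [show (2 : ℕ) ^ (1 + 1) = 2 * 2 by norm_num, pow_mul, pow_two, pow_two, hk, hzz]
  obtain ⟨y, hy, hy1, hd⟩ := exists_small_orbit (s := 2) (w := 1) (S := zpowers k) (R := V) (R1 := ⊥)
    (IsPGroup.of_card (n := 2) (by rw [Nat.card_zpowers, hk4]))
    (by rw [normalizer_eq_top]; exact le_top) (by rw [normalizer_eq_top]; exact le_top) bot_le (by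
      rw [card_bot]
      exact h4)
  rw [Nat.card_zpowers, hk4, pow_one, pow_two] at hd
  have hd2 : 2 ∣ Nat.card ↥(zpowers k ⊓ centralizer ({y} : Set D)) := Nat.dvd_of_mul_dvd_mul_right (by norm_num) hd
  obtain ⟨w, hw⟩ := exists_prime_orderOf_dvd_card' 2 hd2
  rw [← Subgroup.orderOf_coe] at hw
  obtain ⟨hwk, hwy⟩ := mem_inf.1 w.2
  obtain ⟨i, hi⟩ := mem_zpowers_iff.1 hwk
  rw [← hi] at hw hwy
  -- `k ^ i = z`
  have hwz : k ^ i = z := by
    have h1 : (k ^ i) ^ 2 = 1 := by rw [← hw]; exact pow_orderOf_eq_one _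
    have h2 : (4 : ℤ) ∣ i * 2 := by
      rw [← zpow_natCast, ← zpow_mul] at h1
      have := orderOf_dvd_iff_zpow_eq_one.2 h1
      rw [hk4] at this
      exact_mod_cast this
    obtain ⟨j, hj⟩ := h2
    have hj2 : i = 2 * j := by omega
    rw [hj2, zpow_mul, show (2 : ℤ) = ((2 : ℕ) : ℤ) from rfl, zpow_natCast, pow_two, hk]
    rcases Int.even_or_odd j with ⟨m, hm⟩ | ⟨m, hm⟩
    · exfalso
      rw [hj2, hm, zpow_mul, show (2 : ℤ) = ((2 : ℕ) : ℤ) from rfl, zpow_natCast, pow_two, hk, ← two_mul, zpow_mul,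
        show (2 : ℤ) = ((2 : ℕ) : ℤ) from rfl, zpow_natCast, pow_two, hzz, one_zpow, orderOf_one] at hw
      norm_num at hw
    · rw [hm, zpow_add, zpow_mul, show (2 : ℤ) = ((2 : ℕ) : ℤ) from rfl, zpow_natCast, pow_two, hzz, one_zpow, one_mul, zpow_one]
  rw [hwz] at hwy
  have h3 : z * y = y * z := mem_centralizer_singleton_iff.1 hwy
  have h5 := hz y hy
  rw [h3, mul_inv_cancel_right] at h5
  have h6 : orderOf (⟨y, hy⟩ : V) ∣ 2 := orderOf_dvd_of_pow_eq_one (Subtype.ext (by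
    show y ^ 2 = 1
    rw [pow_two]; nth_rewrite 2 [h5]; exact mul_inv_cancel y))
  have h7 : orderOf (⟨y, hy⟩ : V) ∣ Nat.card V := orderOf_dvd_natCard _
  rcases (Nat.dvd_prime Nat.prime_two).1 h6 with h8 | h8
  · apply hy1
    rw [orderOf_eq_one_iff] at h8
    exact mem_bot.2 (congrArg Subtype.val h8)
  · rw [h8] at h7
    exact (Nat.not_even_iff_odd.2 hodd) (even_iff_two_dvd.2 h7)

/-- two commuting elements of order 5 generating a noncyclic group act on `V`: one of them centralises `V` -/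
theorem exists_cent {X : Type u} [Group X] [Finite X] {a b : X} (ha : orderOf a = 5) (hb : orderOf b = 5)
    (hab : a * b = b * a) (hne : b ∉ zpowers a) {V : Subgroup X} (hV : V.Normal) {n : ℕ} (hc : Nat.card ↥V = 7 ^ n)
    (hn : n ≤ 4) (hV1 : V ≠ ⊥) : ∃ e ∈ zpowers a ⊔ zpowers b, orderOf e = 5 ∧ V ≤ centralizer ({e} : Set X) := by
  have h7 : Fact (Nat.Prime 7) := ⟨by norm_num⟩
  have hN : ∀ g : X, g ∈ normalizer (V : Set X) := fun g => by rw [normalizer_eq_top]; trivial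
  obtain ⟨e, he, heo, hf⟩ := H381.Tools.exists_fixed Nat.prime_five ha hb hab hne V (by
    rw [hc]
    intro h5
    have := Nat.prime_five.dvd_of_dvd_pow h5
    norm_num at this) hV1 (hN a) (hN b)
  refine ⟨e, he, heo, ?_⟩
  by_contra hle
  have hlt : V ⊓ centralizer {e} < V := lt_of_le_of_ne inf_le_left (fun h1 => hle (by rw [← h1]; exact inf_le_right))
  obtain ⟨m, hm⟩ := IsPGroup.iff_card.1 ((IsPGroup.of_card hc : IsPGroup 7 ↥V).to_le (inf_le_left : V ⊓ centralizer {e} ≤ V))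
  have hm1 : 1 ≤ m := by
    rcases Nat.eq_zero_or_pos m with h0 | h0
    · rw [h0, pow_zero, card_eq_one] at hm
      exact absurd hm hf
    · exact h0
  have hmn : m < n := by
    by_contra h1
    have h2 : Nat.card ↥V ≤ Nat.card ↥(V ⊓ centralizer {e}) := by
      rw [hm, hc]; exact Nat.pow_le_pow_right (by norm_num) (by omega)
    exact absurd (eq_of_le_of_card_ge inf_le_left h2) hlt.ne
  obtain ⟨y, hy, hy1, hd⟩ := exists_small_orbit (s := 5) (w := 0) (S := zpowers e) (R := V) (R1 := V ⊓ centralizer {e})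
    (IsPGroup.of_card (n := 1) (by rw [Nat.card_zpowers, heo, pow_one])) (fun g _ => hN g) (by
      rw [zpowers_le, mem_normalizer_iff]
      intro v
      have hVn : v ∈ V ↔ e * v * e⁻¹ ∈ V := mem_normalizer_iff.1 (hN e) v
      rw [mem_inf, mem_inf, mem_centralizer_singleton_iff, mem_centralizer_singleton_iff, hVn]
      refine and_congr_right fun _ => ⟨fun h1 => ?_, fun h1 => ?_⟩
      · rw [show e * v * e⁻¹ = v by rw [← h1, mul_inv_cancel_right]]; exact h1
      · have h2 : e * (v * e) = e * (e * v) := by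
          calc e * (v * e) = e * v * e⁻¹ * e * e := by group
            _ = e * (e * v * e⁻¹) * e := by rw [h1]
            _ = e * (e * v) := by group
        exact mul_left_cancel h2) inf_le_left (by
      rw [hm, hc, zero_add, pow_one]
      interval_cases n <;> interval_cases m <;> norm_num)
  rw [Nat.card_zpowers, heo, pow_zero, mul_one] at hd
  have h1 : zpowers e ⊓ centralizer ({y} : Set X) = zpowers e := by
    refine eq_of_le_of_card_ge inf_le_left ?_
    rw [Nat.card_zpowers, heo]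
    exact Nat.le_of_dvd Nat.card_pos hd
  have h2 : e ∈ centralizer ({y} : Set X) := (inf_eq_left.1 h1) (mem_zpowers e)
  exact hy1 (mem_inf.2 ⟨hy, mem_centralizer_singleton_iff.2 (mem_centralizer_singleton_iff.1 h2).symm⟩)

/-- injectivity on the group generated by `a`, `b` -/
theorem map_ne_one {X : Type*} {Y : Type*} [Group X] [Group Y] (φ : X →* Y) {a b : X} (ha : orderOf a = 5)
    (hb : orderOf b = 5) (hab : a * b = b * a) (ha' : orderOf (φ a) = 5) (hb' : orderOf (φ b) = 5)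
    (hne : φ b ∉ zpowers (φ a)) {e : X} (he : e ∈ zpowers a ⊔ zpowers b) (he1 : e ≠ 1) : φ e ≠ 1 := by
  intro h1
  have hc : ∀ m n : Multiplicative ℤ, Commute (zpowersHom X a m) (zpowersHom X b n) := fun m n =>
    ((show Commute a b from hab).zpow_left _).zpow_right _
  have hr : e ∈ (MonoidHom.noncommCoprod (zpowersHom X a) (zpowersHom X b) hc).range := by
    rw [MonoidHom.noncommCoprod_range]
    exact he
  obtain ⟨⟨i, j⟩, rfl⟩ := hr
  have he' : (MonoidHom.noncommCoprod (zpowersHom X a) (zpowersHom X b) hc) (i, j) = a ^ i.toAdd * b ^ j.toAdd := rfl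
  rw [he'] at h1 he1
  set i' := i.toAdd
  set j' := j.toAdd
  rw [map_mul, map_zpow, map_zpow] at h1
  have hj : (5 : ℤ) ∣ j' := by
    by_contra hj
    have hcop : IsCoprime j' (5 : ℤ) := by
      rw [isCoprime_comm]
      exact (Prime.coprime_iff_not_dvd (Nat.prime_iff_prime_int.1 Nat.prime_five)).2 hj
    obtain ⟨u, v, huv⟩ := hcop
    apply hne
    have h2 : φ b = ((φ b) ^ j') ^ u * ((φ b) ^ (5 : ℤ)) ^ v := by
      rw [← zpow_mul, ← zpow_mul, ← zpow_add, mul_comm j', mul_comm 5, huv, zpow_one]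
    have h3 : (φ b) ^ (5 : ℤ) = 1 := by
      rw [show (5 : ℤ) = ((5 : ℕ) : ℤ) from rfl, zpow_natCast, ← hb', pow_orderOf_eq_one]
    rw [h2, h3, one_zpow, mul_one, eq_inv_of_mul_eq_one_right h1]
    exact zpow_mem (inv_mem (zpow_mem (mem_zpowers _) _)) _
  have hbj : b ^ j' = 1 := by
    rw [← orderOf_dvd_iff_zpow_eq_one, hb]; exact_mod_cast hj
  have hbj' : (φ b) ^ j' = 1 := by rw [← map_zpow, hbj, map_one]
  rw [hbj', mul_one, ← orderOf_dvd_iff_zpow_eq_one, ha'] at h1
  apply he1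
  rw [hbj, mul_one, ← orderOf_dvd_iff_zpow_eq_one, ha]
  exact h1

/-- **`Inv1 5 7`** -/
theorem inv57 (h : Rad 5 z x N f) (hAc : ¬ Group.IsSolvable A) {k : ↥(centralizer ({z} : Set D))} (hk : (k : D) * k = z)
    (hA7 : 7 ∣ Nat.card A) (hD : ¬ 7 ^ 7 ∣ Nat.card D) (hinv : Inv1 5 7 A)
    (hab : ∃ a b : A, orderOf a = 5 ∧ orderOf b = 5 ∧ a * b = b * a ∧ b ∉ zpowers a) : Inv1 5 7 D := by
  have h7 : Fact (Nat.Prime 7) := ⟨by norm_num⟩
  intro S hS hSi E hE hn
  by_contra hne
  obtain ⟨V, hV, hVr, hV1, hVN, hNV, hz⟩ := exists_V h hAc (by norm_num) (by norm_num) (by norm_num) (by norm_num) hinv hS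
    hSi hE hn hne
  refine hV1 (no_V h (by norm_num) hk (by norm_num) (by norm_num) hV hVr hNV hz ?_)
  intro hsol
  obtain ⟨ψ, hψ, hψf, hψN, hψk⟩ := exists_map h hAc
  -- the image of the centralizer
  have hCn : (centralizer (V : Set D)).Normal := inferInstance
  have hC1 : (centralizer (V : Set D)).map ψ = ⊥ := by
    rcases (hCn.map ψ hψ).eq_bot_or_eq_top with h2 | h2
    · exact h2
    · exfalso
      apply hAc
      have h3 : Group.IsSolvable ↥((centralizer (V : Set D)).map ψ) :=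
        Group.isSolvable_of_surjective (ψ.subgroupMap_surjective _)
      rw [h2] at h3
      exact Group.isSolvable_of_surjective (f := (Subgroup.topEquiv (G := A)).toMonoidHom) (Subgroup.topEquiv (G := A)).surjective
  -- the order of `V`
  obtain ⟨n, hcn⟩ := IsPGroup.iff_card.1 hVr
  have h4 := four_dvd hk h.zz h.z1 hV (by rw [hcn]; exact (by decide : Odd 7).pow) hz
  have hn5 : n ≤ 5 := by
    have h1 := card_mul_dvd h hAc hVN
    rw [hcn] at h1
    have h2 : 7 ^ (n + 1) ∣ Nat.card D := by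
      rw [pow_succ]
      exact (mul_dvd_mul_left _ hA7).trans h1
    by_contra h3
    exact hD ((pow_dvd_pow 7 (by omega)).trans h2)
  have hn4 : n ≤ 4 := by
    by_contra h3
    have h5 : n = 5 := by omega
    rw [hcn, h5] at h4
    norm_num at h4
  -- the quotient
  have hZ := h.normalZ
  set q := QuotientGroup.mk' (zpowers x) with hq
  have hqs : Function.Surjective q := QuotientGroup.mk'_surjective _
  have hq1 : ∀ {g : D}, q g = 1 ↔ ∃ i : ℤ, g = x ^ i := by
    intro g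
    rw [show q g = (g : D ⧸ zpowers x) from rfl, QuotientGroup.eq_one_iff, mem_zpowers_iff]
    exact ⟨fun ⟨i, hi⟩ => ⟨i, hi.symm⟩, fun ⟨i, hi⟩ => ⟨i, hi.symm⟩⟩
  have hx5 : ∀ i : ℤ, (x ^ i) ^ 5 = 1 := fun i => by
    rw [← zpow_natCast, ← zpow_mul, mul_comm, zpow_mul, zpow_natCast, ← h.ox, pow_orderOf_eq_one, one_zpow]
  have hVx : ∀ g ∈ V, q g = 1 → g = 1 := by
    intro g hg hg1
    obtain ⟨i, rfl⟩ := hq1.1 hg1
    obtain ⟨k, hk⟩ := hVr ⟨x ^ i, hg⟩
    have h1 : (x ^ i) ^ 7 ^ k = 1 := congrArg Subtype.val hk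
    have h3 : orderOf (x ^ i) ∣ Nat.gcd (7 ^ k) 5 := Nat.dvd_gcd (orderOf_dvd_of_pow_eq_one h1) (orderOf_dvd_of_pow_eq_one (hx5 i))
    have h4 : Nat.gcd (7 ^ k) 5 = 1 := Nat.Coprime.pow_left k (by norm_num)
    rw [h4, Nat.dvd_one, orderOf_eq_one_iff] at h3
    exact h3
  have hVinj : Function.Injective (q.comp V.subtype) := by
    rw [injective_iff_map_eq_one]
    intro v hv
    exact Subtype.ext (hVx v v.2 hv)
  have hVc : Nat.card ↥(V.map q) = 7 ^ n := by
    rw [← hcn, Nat.card_congr (MonoidHom.ofInjective hVinj).toEquiv]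
    have : (q.comp V.subtype).range = V.map q := by rw [MonoidHom.range_comp, range_subtype]
    rw [this]
  have hzq : q z * q z = 1 := by rw [← map_mul, h.zz, map_one]
  have hz1 : q z ≠ 1 := by
    intro h1
    obtain ⟨i, hi⟩ := hq1.1 h1
    have h2 := hx5 i
    rw [← hi] at h2
    apply h.z1
    calc z = z ^ 5 * ((z * z) * (z * z))⁻¹ := by group
      _ = 1 := by rw [h2, h.zz]; group
  -- the map of the quotient
  have hψx : ∀ g ∈ zpowers x, ψ g = 1 := by
    intro g hg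
    obtain ⟨i, rfl⟩ := mem_zpowers_iff.1 hg
    exact hψN _ (N.zpow_mem h.xN i)
  let φ : D ⧸ zpowers x →* A := QuotientGroup.lift (zpowers x) ψ hψx
  have hφ : ∀ g, φ (q g) = ψ g := fun g => rfl
  -- lifts
  have hlift : ∀ a : A, orderOf a = 5 → ∃ c : D, c * z = z * c ∧ ψ c = a ∧ q c ^ 5 = 1 := by
    intro a ha
    obtain ⟨c, rfl⟩ := h.surj a
    refine ⟨(c : D) ^ 6, ?_, ?_, ?_⟩
    · exact ((show Commute (c : D) z from mem_centralizer_singleton_iff.1 c.2).pow_left 6).eq
    · rw [map_pow, hψf, show (6 : ℕ) = 5 + 1 from rfl, pow_succ, ← ha, pow_orderOf_eq_one, one_mul]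
    · rw [← map_pow, hq1]
      have h1 : f (c ^ 5) = 1 := by rw [map_pow, ← ha, pow_orderOf_eq_one]
      obtain ⟨i, hi⟩ := h.ker _ h1
      have hi' : (c : D) ^ 5 = x ^ i ∨ (c : D) ^ 5 = x ^ i * z := hi
      rw [← pow_mul, mul_comm, pow_mul]
      rcases hi' with hi | hi
      · exact ⟨i * 6, by rw [hi, zpow_mul, show (6 : ℤ) = ((6 : ℕ) : ℤ) from rfl, zpow_natCast]⟩
      · refine ⟨i * 6, ?_⟩
        have hxz : Commute (x ^ i) z := (h.xzc i z).symm
        have hz6 : z ^ 6 = 1 := by rw [show (6 : ℕ) = 2 * 3 by norm_num, pow_mul, pow_two, h.zz, one_pow]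
        rw [hi, hxz.mul_pow, hz6, mul_one, zpow_mul, show (6 : ℤ) = ((6 : ℕ) : ℤ) from rfl, zpow_natCast]
  obtain ⟨a, b, ha, hb, hab, hnab⟩ := hab
  obtain ⟨c, hcz, hca, hc5⟩ := hlift a ha
  obtain ⟨d, hdz, hdb, hd5⟩ := hlift b hb
  have hφc : φ (q c) = a := hca
  have hφd : φ (q d) = b := hdb
  have hoc : orderOf (q c) = 5 := by
    refine orderOf_eq_prime hc5 fun h1 => ?_
    rw [h1, map_one] at hφc
    rw [← hφc, orderOf_one] at ha
    norm_num at ha
  have hod : orderOf (q d) = 5 := by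
    refine orderOf_eq_prime hd5 fun h1 => ?_
    rw [h1, map_one] at hφd
    rw [← hφd, orderOf_one] at hb
    norm_num at hb
  have hcomm : q c * q d = q d * q c := by
    let c' : ↥(centralizer ({z} : Set D)) := ⟨c, mem_centralizer_singleton_iff.2 hcz⟩
    let d' : ↥(centralizer ({z} : Set D)) := ⟨d, mem_centralizer_singleton_iff.2 hdz⟩
    have h1 : f (c' * d' * c'⁻¹ * d'⁻¹) = 1 := by
      rw [← hψf]
      show ψ (c * d * c⁻¹ * d⁻¹) = 1
      rw [map_mul, map_mul, map_mul, map_inv, map_inv, hca, hdb, hab, mul_inv_cancel_right, mul_inv_cancel]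
    obtain ⟨i, hi⟩ := h.ker _ h1
    have hi' : c * d * c⁻¹ * d⁻¹ = x ^ i ∨ c * d * c⁻¹ * d⁻¹ = x ^ i * z := hi
    rcases hi' with hi | hi
    · have h2 : q (c * d * c⁻¹ * d⁻¹) = 1 := hq1.2 ⟨i, hi⟩
      rw [map_mul, map_mul, map_mul, map_inv, map_inv] at h2
      rw [mul_inv_eq_one, mul_inv_eq_iff_eq_mul] at h2
      exact h2
    · exfalso
      have h2 : q (c * d * c⁻¹ * d⁻¹) = q z := by
        rw [hi, map_mul, hq1.2 ⟨i, rfl⟩, one_mul]
      rw [map_mul, map_mul, map_mul, map_inv, map_inv, mul_inv_eq_iff_eq_mul] at h2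
      have h3 : Commute (q z) (q d) := by
        show q z * q d = q d * q z
        rw [← map_mul, ← map_mul, hdz]
      have h4 : (q c * q d * (q c)⁻¹) ^ 5 = 1 := by rw [conj_pow, hd5, mul_one, mul_inv_cancel]
      rw [h2, h3.mul_pow, hd5, mul_one] at h4
      apply hz1
      calc q z = q z ^ 5 * ((q z * q z) * (q z * q z))⁻¹ := by group
        _ = 1 := by rw [h4, hzq]; group
  have hfin : Finite (D ⧸ zpowers x) := Quotient.finite _
  obtain ⟨e, he, heo, hVe⟩ := exists_cent hoc hod hcomm (by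
    intro h1
    obtain ⟨i, hi⟩ := mem_zpowers_iff.1 h1
    apply hnab
    rw [← hφd, ← hi, map_zpow, hφc]
    exact zpow_mem (mem_zpowers a) i) (hV.map q hqs) hVc hn4 (by
      intro h1
      rw [h1, card_bot] at hVc
      apply hV1
      rw [← card_eq_one, hcn, ← hVc])
  have he1 : e ≠ 1 := by
    intro h1
    rw [h1, orderOf_one] at heo
    norm_num at heo
  have hφe := map_ne_one φ hoc hod hcomm (by rw [hφc, ha]) (by rw [hφd, hb]) (by rw [hφc, hφd]; exact hnab) he he1
  obtain ⟨g, rfl⟩ := hqs e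
  have hg : g ∈ centralizer (V : Set D) := by
    rw [mem_centralizer_iff]
    intro v hv
    have h1 : q v * q g = q g * q v := mem_centralizer_singleton_iff.1 (hVe (mem_map_of_mem q hv))
    have h2 : q (v * (g * v⁻¹ * g⁻¹)) = 1 := by
      rw [map_mul, map_mul, map_mul, map_inv, map_inv]
      calc q v * (q g * (q v)⁻¹ * (q g)⁻¹) = (q v * q g) * (q v)⁻¹ * (q g)⁻¹ := by group
        _ = (q g * q v) * (q v)⁻¹ * (q g)⁻¹ := by rw [h1]
        _ = 1 := by group
    have h3 := hVx _ (V.mul_mem hv (hV.conj_mem _ (V.inv_mem hv) g)) h2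
    calc v * g = (v * (g * v⁻¹ * g⁻¹)) * (g * v) := by group
      _ = g * v := by rw [h3, one_mul]
  have h6 : ψ g ∈ (centralizer (V : Set D)).map ψ := mem_map_of_mem ψ hg
  rw [hC1, mem_bot] at h6
  exact hφe h6

end Cfsg.Agent.H573.Hall.RadInv
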