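import Cfsg.Agent.H573.Hall.Comm
import Cfsg.Agent.H573.Hall.RadSeven
import Cfsg.Agent.H573.Hall.JTwo
import Cfsg.Agent.H546.MFiveFull

/-!
# The Monster, `p = 5` (helper573)

`inv_m` : `Inv1 5 r M`, `r ≥ 7`.
-/

set_option autoImplicit false
set_option maxRecDepth 100000

namespace Cfsg.Agent.H573.Hall.MFiv

open Subgroup Cfsg Cfsg.Agent.H171.Odd
open Cfsg.Agent.MonsterU Cfsg.Agent.MFive Cfsg.Agent.BpTab Cfsg.Agent.BpSpor.M5
open Cfsg.Agent.LThreeMB (fr XX zD self toXX KChart.Cent KChart.pi KChart.chart)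
open Cfsg.Agent.MonsterU.Ch
open Cfsg.Agent.MonsterU.Lam2 (L2)
open Cfsg.Spor (Co1)
open scoped commutatorElement

universe u v

local instance : Fact (Nat.Prime 5) := ⟨Nat.prime_five⟩

section chart

variable {G : Type u} [Group G] {Q : Subgroup G} {z : G} {eta : G → L2}
  {pi : Subgroup.centralizer ({z} : Set G) →* Co1}

/-- lifting a commutator -/
theorem exists_comm [Finite G] (h : Chart Q z eta pi) {x : Subgroup.centralizer ({z} : Set G)} (hx : orderOf x = 5)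
    {B : Subgroup Co1} (hB : IsPGroup 5 ↥B) (hBC : B ≤ centralizer ({pi x} : Set Co1)) {a b : Co1} (ha : a ∈ B) (hb : b ∈ B)
    (hab : ⁅a, b⁆ = pi x) :
    ∃ P : Subgroup G, IsPGroup 5 ↥P ∧ P ≤ centralizer ({(x : G)} : Set G) ∧ (x : G) ∈ ⁅P, P⁆ := by
  have h5 : x ^ 5 = 1 := by rw [← hx, pow_orderOf_eq_one]
  let K : Subgroup ↥(Subgroup.centralizer ({z} : Set G)) := B.comap pi ⊓ centralizer ({x} : Set _)
  let f : ↥K →* ↥B := (pi.comp K.subtype).codRestrict B fun k => (mem_inf.1 k.2).1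
  have hf : Function.Surjective f := by
    rintro ⟨s, hs⟩
    obtain ⟨c, hcx, hc⟩ := exists_lift h Nat.prime_five (by decide) h5 (mem_centralizer_singleton_iff.1 (hBC hs))
    exact ⟨⟨c, mem_inf.2 ⟨mem_comap.2 (by rw [hc]; exact hs), mem_centralizer_singleton_iff.2 hcx⟩⟩, Subtype.ext hc⟩
  obtain ⟨P⟩ : Nonempty (Sylow 5 ↥K) := inferInstance
  have hfinB : Finite ↥B := Finite.of_surjective f hf
  have htop : ((P.mapSurjective hf : Sylow 5 ↥B) : Subgroup ↥B) = ⊤ :=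
    ((P.mapSurjective hf).is_maximal' (Q := ⊤) (hB.of_equiv Subgroup.topEquiv.symm) le_top).symm
  have hmem : ∀ s : ↥B, ∃ c ∈ (P : Subgroup ↥K), f c = s := by
    intro s
    have h1 : s ∈ ((P.mapSurjective hf : Sylow 5 ↥B) : Subgroup ↥B) := by rw [htop]; trivial
    obtain ⟨c, hc, hcs⟩ := h1
    exact ⟨c, hc, hcs⟩
  obtain ⟨c, hc, hca⟩ := hmem ⟨a, ha⟩
  obtain ⟨d, hd, hdb⟩ := hmem ⟨b, hb⟩
  have hcd : f ⁅c, d⁆ = ⁅(⟨a, ha⟩ : ↥B), ⟨b, hb⟩⁆ := by rw [map_commutatorElement, hca, hdb]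
  have hpi : pi ((⁅c, d⁆ : ↥K) : ↥(Subgroup.centralizer ({z} : Set G))) = pi x := by
    rw [← hab]
    exact congrArg Subtype.val hcd
  -- the difference
  have hcomm : Commute ((⁅c, d⁆ : ↥K) : ↥(Subgroup.centralizer ({z} : Set G))) x :=
    mem_centralizer_singleton_iff.1 (mem_inf.1 (⁅c, d⁆ : ↥K).2).2
  set y : ↥(Subgroup.centralizer ({z} : Set G)) := ((⁅c, d⁆ : ↥K) : ↥(Subgroup.centralizer ({z} : Set G))) with hy
  have hyP : ∃ n : ℕ, y ^ 5 ^ n = 1 := by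
    have h1 : ⁅c, d⁆ ∈ (P : Subgroup ↥K) := by
      rw [commutatorElement_def]
      exact mul_mem (mul_mem (mul_mem hc hd) (inv_mem hc)) (inv_mem hd)
    obtain ⟨n, hn⟩ := P.isPGroup' ⟨_, h1⟩
    exact ⟨n, congrArg (fun k : ↥(P : Subgroup ↥K) => ((k : ↥K) : ↥(Subgroup.centralizer ({z} : Set G)))) hn⟩
  obtain ⟨n, hn⟩ := hyP
  have h1 : (y * x⁻¹) ^ 5 ^ (n + 1) = 1 := by
    rw [hcomm.inv_right.mul_pow, pow_succ, pow_mul, hn, one_pow, one_mul, mul_comm (5 ^ n), pow_mul, inv_pow, h5, inv_one,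
      one_pow]
  have h2 : ((y * x⁻¹ : ↥(Subgroup.centralizer ({z} : Set G))) : G) ∈ Q := by
    rw [← h.pi_eq_one, map_mul, map_inv, hpi, mul_inv_cancel]
  have h3 : ((y * x⁻¹ : ↥(Subgroup.centralizer ({z} : Set G))) : G) = 1 := by
    have h4 : orderOf (⟨_, h2⟩ : ↥Q) ∣ 2 ^ 25 := by rw [← h.card_Q]; exact orderOf_dvd_natCard _
    rw [Subgroup.orderOf_mk] at h4
    have h6 : orderOf ((y * x⁻¹ : ↥(Subgroup.centralizer ({z} : Set G))) : G) ∣ 5 ^ (n + 1) := by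
      rw [Subgroup.orderOf_coe]
      exact orderOf_dvd_of_pow_eq_one h1
    have h7 := Nat.dvd_gcd h4 h6
    rw [Nat.Coprime.gcd_eq_one (Nat.Coprime.pow _ _ (by norm_num)), Nat.dvd_one, orderOf_eq_one_iff] at h7
    exact h7
  have h4 : y = x := mul_inv_eq_one.1 (Subtype.ext h3)
  refine ⟨(P : Subgroup ↥K).map ((centralizer ({z} : Set G)).subtype.comp K.subtype), P.isPGroup'.map _, ?_, ?_⟩
  · rintro _ ⟨k, -, rfl⟩
    rw [mem_centralizer_singleton_iff]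
    exact congrArg Subtype.val (mem_centralizer_singleton_iff.1 (mem_inf.1 k.2).2)
  · rw [← map_commutator]
    exact ⟨⁅c, d⁆, commutator_mem_commutator hc hd, congrArg Subtype.val h4⟩

/-- the commutator relation in `Co1` -/
theorem exists_comm_co1 : ∃ (c a b : Co1) (B : Subgroup Co1), orderOf c = 5 ∧ fr c = 2 ^ 4 ∧ IsPGroup 5 ↥B ∧
    B ≤ centralizer ({c} : Set Co1) ∧ a ∈ B ∧ b ∈ B ∧ ⁅a, b⁆ = c := by
  refine ⟨QuotientGroup.mk CoFive.Class.r4, QuotientGroup.mk (CoFive.Rel.e 4), QuotientGroup.mk (CoFive.Rel.e 2),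
    CoFive.Sylow.S5.map (QuotientGroup.mk' (Subgroup.center Co0)), CoFive.Sylow.orderOf_mk CoFive.Class.order_r4,
    CoFive.Ranks.fr_r4, IsPGroup.of_card CoFive.Sylow.card_map, CoFive.Sylow.map_le, ?_, ?_, ?_⟩
  · refine mem_map_of_mem (QuotientGroup.mk' (Subgroup.center Co0)) (CoFive.Sylow.mem_S5.2 ⟨0, 1, ?_⟩)
    show CoFive.Rel.e 4 = CoFive.Abs.Ph _ _ _ 0 * CoFive.Rel.e 4 ^ (1 : ZMod 5).val
    rw [CoFive.Abs.Ph_zero, one_mul, show (1 : ZMod 5).val = 1 from rfl, pow_one]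
  · refine mem_map_of_mem (QuotientGroup.mk' (Subgroup.center Co0)) (CoFive.Sylow.mem_S5.2 ⟨(0, 1, 0), 0, ?_⟩)
    show CoFive.Rel.e 2 = CoFive.Abs.Ph (CoFive.Rel.e 1) (CoFive.Rel.e 2) (CoFive.Rel.e 3) (0, 1, 0) *
      CoFive.Rel.e 4 ^ (0 : ZMod 5).val
    rw [CoFive.Abs.Ph, show (0 : ZMod 5).val = 0 from rfl, show (1 : ZMod 5).val = 1 from rfl, pow_zero, pow_zero,
      pow_zero, pow_one, one_mul, mul_one, mul_one]
  · have h := CoFive.Rel.k_act4
    simp only [Bool.and_eq_true] at h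
    have h2 := LThreeCo1.Ev.eq_of_eqB CoFive.Rel.rep h.1.2
    simp only [List.map_cons, List.map_nil, List.prod_cons, List.prod_nil, mul_one] at h2
    have h3 : ⁅CoFive.Rel.e 4, CoFive.Rel.e 2⁆ = CoFive.Rel.e 1 := by
      rw [commutatorElement_def, mul_inv_eq_iff_eq_mul, mul_inv_eq_iff_eq_mul, h2, mul_assoc]
    exact congrArg (QuotientGroup.mk : Co0 → Co1) h3

/-- the element `x₀` -/
theorem exists_zero [Finite G] (h : Chart Q z eta pi) (htr : TrNe 5 z pi) (I : CoFive)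
    (hJ : ∀ s : Co1, orderOf s = 5 → fr s = 1 → Spor.IsoJ2 (XX s)) (h8 : HNEight z pi)
    (hpr : HasPair 5 z pi) (hcl : WClassOf 5 1)
    (h4 : ∃ c : Co1, orderOf c = 5 ∧ fr c = 2 ^ 4 ∧ 5 ^ 4 ∣ Nat.card ↥(centralizer ({c} : Set Co1)))
    (hk : ∃ (x₀ : Subgroup.centralizer ({z} : Set G)) (k : G), orderOf x₀ = 5 ∧ fr (pi x₀) = 1 ∧
      k * (x₀ : G) = x₀ * k ∧ k * k = z)
    (hcard : ¬ 5 ^ 10 ∣ Nat.card G) : ∃ (x : Subgroup.centralizer ({z} : Set G)) (k : G) (P : Subgroup G), orderOf x = 5 ∧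
      fr (pi x) = 1 ∧ k * (x : G) = x * k ∧ k * k = z ∧ ¬ 5 ∣ (centralizer ({(x : G)} : Set G)).index ∧ IsPGroup 5 ↥P ∧
      P ≤ centralizer ({(x : G)} : Set G) ∧ (x : G) ∈ ⁅P, P⁆ := by
  have hp : Nat.Prime 5 := Nat.prime_five
  have ho : Odd 5 := by decide
  have hpr' := hpr
  obtain ⟨x, u, g, hx, hfr, huz, hux, hne, hg⟩ := hpr
  obtain ⟨x₁, k₁, hx₁, hfr₁, hkx₁, hkk₁⟩ := hk
  obtain ⟨k, hkx, hkk⟩ := exists_sq h hp ho hcl hx₁ hfr₁ hkx₁ hkk₁ hx hfr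
  have hJx := hJ _ (orderOf_pi h hp ho hx) hfr
  obtain ⟨f1, f2, f3, f4⟩ := j2_facts hJx
  have hD4 := dvd_zero h htr I h8 hpr' hcl h4 hx hfr
  obtain ⟨N, hN⟩ := exists_rad h (by norm_num) hx hfr (fun d hd hc => isolated h htr hx hfr d hd hc) f1 f2
  have hkz : k * z = z * k := by rw [← hkk, mul_assoc]
  obtain ⟨S, T, hSn, hST, hTp, hT9, hfac⟩ := H546.RadSeven.exists_nine (hA := f1) f3 hN
    (k := ⟨⟨k, mem_centralizer_singleton_iff.2 hkx⟩, mem_centralizer_singleton_iff.2 (Subtype.ext hkz)⟩)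
    (Subtype.ext hkk) hD4 f4 (by rw [H546.MFiveFull.j2_card hJx]; norm_num) (by rw [H546.MFiveFull.j2_card hJx]; norm_num)
  have hidx : ¬ 5 ∣ (centralizer ({(x : G)} : Set G)).index := by
    intro h5
    apply hcard
    rw [← (centralizer ({(x : G)} : Set G)).card_mul_index, pow_succ]
    exact mul_dvd_mul (hT9.trans (card_subgroup_dvd_card T)) h5
  -- the commutator
  obtain ⟨c, a, b, B, hc, hfc, hB, hBC, ha, hb, hab⟩ := exists_comm_co1
  obtain ⟨x₄, hx₄, rfl⟩ := KPair.exists_order h hp ho hc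
  obtain ⟨P, hP, hPC, hxP⟩ := exists_comm h hx₄ hB hBC ha hb hab
  obtain ⟨l, i, hl⟩ := conj_pair h hp ho htr (R := fun n => n = 2 ^ 8) I.ranks I.four
    (fun x hx h2 => ⟨(simple_of_isoHN (h8 x hx h2)).1, (simple_of_isoHN (h8 x hx h2)).2.1⟩) hx hfr huz hux
    hne hg hx₄ hfc
  have hxo : orderOf (x : G) = 5 := by rw [Subgroup.orderOf_coe, hx]
  have hx₄o : orderOf (x₄ : G) = 5 := by rw [Subgroup.orderOf_coe, hx₄]
  have hi5 : orderOf ((x : G) ^ i) = 5 := by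
    rw [← hl, ← hx₄o]
    exact MulEquiv.orderOf_eq (MulAut.conj l) (x₄ : G)
  -- `x` is a power of `x ^ i`
  have hmem : (x : G) ∈ zpowers ((x : G) ^ i) := by
    have h1 : zpowers ((x : G) ^ i) ≤ zpowers (x : G) := zpowers_le.2 (pow_mem (mem_zpowers _) _)
    have h2 : zpowers ((x : G) ^ i) = zpowers (x : G) := eq_of_le_of_card_ge h1 (by
      rw [Nat.card_zpowers, Nat.card_zpowers, hi5, hxo])
    rw [h2]
    exact mem_zpowers _
  obtain ⟨j, hj⟩ := mem_zpowers_iff.1 hmem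
  refine ⟨x, k, P.map (MulAut.conj l).toMonoidHom, hx, hfr, hkx, hkk, hidx, hP.map _, ?_, ?_⟩
  · rintro _ ⟨y, hy, rfl⟩
    have h1 : y * (x₄ : G) = x₄ * y := mem_centralizer_singleton_iff.1 (hPC hy)
    have h2 : Commute (l * y * l⁻¹) ((x : G) ^ i) := by
      show l * y * l⁻¹ * (x : G) ^ i = (x : G) ^ i * (l * y * l⁻¹)
      rw [← hl]
      calc l * y * l⁻¹ * (l * x₄ * l⁻¹) = l * (y * x₄) * l⁻¹ := by group
        _ = l * (x₄ * y) * l⁻¹ := by rw [h1]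
        _ = l * x₄ * l⁻¹ * (l * y * l⁻¹) := by group
    rw [mem_centralizer_singleton_iff]
    show l * y * l⁻¹ * (x : G) = x * (l * y * l⁻¹)
    have h3 := h2.zpow_right j
    rw [hj] at h3
    exact h3
  · rw [← map_commutator]
    have h1 : (x : G) ^ i ∈ ⁅P, P⁆.map (MulAut.conj l).toMonoidHom := ⟨x₄, hxP, hl⟩
    have h2 := zpow_mem h1 j
    rwa [hj] at h2

/-- the centralizer of `x₀` -/
theorem inv_cent [Finite G] (h : Chart Q z eta pi) (htr : TrNe 5 z pi)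
    (hJ : ∀ s : Co1, orderOf s = 5 → fr s = 1 → Spor.IsoJ2 (XX s))
    {x : Subgroup.centralizer ({z} : Set G)} (hx : orderOf x = 5) (hfr : fr (pi x) = 1) {k : G}
    (hkx : k * (x : G) = x * k) (hkk : k * k = z) {r b : ℕ} (hr : r.Prime) (hr2 : r ≠ 2) (hr5 : r ≠ 5)
    (hrA : ¬ r ∣ 604800)
    (hb : ¬ r ^ (b + 1) ∣ Nat.card G) {s e : ℕ} (hs : s.Prime) (hsr : s ≠ r) (he : s ^ e ∣ 604800) (w : ℕ → ℕ)
    (hw : ∀ k, 1 ≤ k → k ≤ b → ¬ s ^ (w k + 1) ∣ r ^ k - 1) (hW : ∑ i ∈ Finset.range b, w (i + 1) < e) :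
    Inv1 5 r ↥(centralizer ({(x : G)} : Set G)) := by
  have hJx := hJ _ (orderOf_pi h Nat.prime_five (by decide) hx) hfr
  obtain ⟨f1, f2, f3, f4⟩ := j2_facts hJx
  have hc := H546.MFiveFull.j2_card hJx
  obtain ⟨N, hN⟩ := exists_rad h (by norm_num) hx hfr (fun d hd hc => isolated h htr hx hfr d hd hc) f1 f2
  have hkz : k * z = z * k := by rw [← hkk, mul_assoc]
  have hfin : Finite (XX (pi x)) := Nat.finite_of_card_ne_zero (by rw [hc]; norm_num)
  exact RadInv.inv1 hN f3 (by norm_num) (k := ⟨⟨k, mem_centralizer_singleton_iff.2 hkx⟩, mem_centralizer_singleton_iff.2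
    (Subtype.ext hkz)⟩) (Subtype.ext hkk) hr hr2 hr5 (inv1_of_not_dvd hr (by rw [hc]; exact hrA))
    (fun h1 => hb (h1.trans (card_subgroup_dvd_card _))) hs hsr (by rw [hc]; exact he) w hw hW

/-- the centralizer of `x₀` at 7 -/
theorem inv_cent_seven [Finite G] (h : Chart Q z eta pi) (htr : TrNe 5 z pi)
    (hJ : ∀ s : Co1, orderOf s = 5 → fr s = 1 → Spor.IsoJ2 (XX s))
    {x : Subgroup.centralizer ({z} : Set G)} (hx : orderOf x = 5) (hfr : fr (pi x) = 1) {k : G}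
    (hkx : k * (x : G) = x * k) (hkk : k * k = z) (hb : ¬ 7 ^ 7 ∣ Nat.card G) :
    Inv1 5 7 ↥(centralizer ({(x : G)} : Set G)) := by
  have hJx := hJ _ (orderOf_pi h Nat.prime_five (by decide) hx) hfr
  obtain ⟨f1, f2, f3, f4⟩ := j2_facts hJx
  have hc := H546.MFiveFull.j2_card hJx
  obtain ⟨N, hN⟩ := exists_rad h (by norm_num) hx hfr (fun d hd hc => isolated h htr hx hfr d hd hc) f1 f2
  have hkz : k * z = z * k := by rw [← hkk, mul_assoc]
  exact RadInv.inv57 hN f3 (k := ⟨⟨k, mem_centralizer_singleton_iff.2 hkx⟩, mem_centralizer_singleton_iff.2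
    (Subtype.ext hkz)⟩) (Subtype.ext hkk) (by rw [hc]; norm_num)
    (fun h1 => hb (h1.trans (card_subgroup_dvd_card _))) (JTwo.inv57 hJx) (JTwo.comm_five hJx)

end chart

/-! ### The model -/

open Cfsg.Agent.MonsterX Cfsg.Agent.MonsterX.Model Cfsg.Agent.MonsterX.MainPack Cfsg.Agent.MonsterX.MainSimple
  Cfsg.Agent.MonsterX.MainBasic
open Cfsg.Agent.MonsterU.Assembly Cfsg.Agent.MonsterP

/-- **`Inv1 5 r` for the Monster** -/
theorem inv_m {G : Type*} [Group G] (h : Spor.IsoM G) {r : ℕ} (hr : r ∈ [7, 11, 13, 17, 19, 23, 29, 31, 41, 47, 59, 71]) :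
    Inv1 5 r G := by
  obtain ⟨e⟩ := h
  obtain ⟨f⟩ := Cfsg.Agent.MonsterP.Equiv.equiv
  refine Inv1.congr (e.trans f) ?_
  have := MFive.Row.finite_model
  have hc : Nat.card ↥InstData.M.G = _ := MonsterP.EquivOf.isM_model.2
  have hC := KChart.chart KDone.lft MFive.Row.hc
  obtain ⟨x, k, P, hx, hfr, hkx, hkk, hidx, hP, hPC, hxP⟩ := exists_zero hC BpSpor.M5.trNe
    (CpAutBFive.Closed.coFive H546.MFiveFull.hJ) H546.MFiveFull.hJ
    CpAutBFive.Closed.hnEight BpSpor.M5.hasPair (CoFive.Ranks.wclassOf _) CoFive.Sylow.exists_four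
    (BpSpor.M5.exists_k BpSpor.M5.hA) H546.MFiveFull.card_model
  have key : ∀ {r b : ℕ} (s e : ℕ) (w v : ℕ → ℕ), r.Prime → r ≠ 2 → r ≠ 5 → ¬ r ∣ 604800 →
      ¬ r ^ (b + 1) ∣ Nat.card ↥InstData.M.G →
      s.Prime → s ≠ r → s ^ e ∣ 604800 → (∀ k, 1 ≤ k → k ≤ b → ¬ s ^ (w k + 1) ∣ r ^ k - 1) →
      ∑ i ∈ Finset.range b, w (i + 1) < e → (∀ k, 1 ≤ k → k ≤ b → ¬ 5 ^ (v k + 1) ∣ r ^ k - 1) →
      ∑ i ∈ Finset.range b, v (i + 1) ≤ 2 → Inv1 5 r ↥InstData.M.G := by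
    intro r b s e w v hr hr2 hr5 hrA hb hs hsr he hw hW hv hV
    exact inv1_of_comm Nat.prime_five hr hr5.symm hb v hv hV hidx hP hPC hxP
      (inv_cent hC BpSpor.M5.trNe H546.MFiveFull.hJ hx hfr hkx hkk hr hr2 hr5 hrA hb hs hsr he w hw hW)
  simp only [List.mem_cons, List.not_mem_nil, or_false] at hr
  rcases hr with rfl | rfl | rfl | rfl | rfl | rfl | rfl | rfl | rfl | rfl | rfl | rfl
  · exact inv1_of_comm (b := 6) Nat.prime_five (by norm_num) (by norm_num) (by rw [hc]; norm_num)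
      (fun k => if k = 4 then 2 else 0) (by decide) (by decide) hidx hP hPC hxP
      (inv_cent_seven hC BpSpor.M5.trNe H546.MFiveFull.hJ hx hfr hkx hkk (by rw [hc]; norm_num))
  · exact key (b := 2) 7 1 (fun _ => 0) (fun _ => 1)
      (by norm_num) (by norm_num) (by norm_num) (by norm_num) (by rw [hc]; norm_num) (by norm_num) (by norm_num) (by norm_num)
      (by decide) (by decide) (by decide) (by decide)
  · exact key (b := 3) 5 2 (fun _ => 0) (fun _ => 0)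
      (by norm_num) (by norm_num) (by norm_num) (by norm_num) (by rw [hc]; norm_num) (by norm_num) (by norm_num) (by norm_num)
      (by decide) (by decide) (by decide) (by decide)
  all_goals
    first
    | exact key (b := 1) 7 1 (fun _ => 0) (fun _ => 1)
        (by norm_num) (by norm_num) (by norm_num) (by norm_num) (by rw [hc]; norm_num) (by norm_num) (by norm_num)
        (by norm_num) (by decide) (by decide) (by decide) (by decide)
    | exact key (b := 1) 3 1 (fun _ => 0) (fun _ => 1)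
        (by norm_num) (by norm_num) (by norm_num) (by norm_num) (by rw [hc]; norm_num) (by norm_num) (by norm_num)
        (by norm_num) (by decide) (by decide) (by decide) (by decide)

end Cfsg.Agent.H573.Hall.MFiv
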