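import Cfsg.Agent.H573.Hall.RadInv
import Cfsg.Agent.LThreeMB.Six

/-!
# `Inv1 p r` in the situation `Rad` with `z` a square (helper573)
-/

set_option autoImplicit false

namespace Cfsg.Agent.H573.Hall

open Subgroup Cfsg Cfsg.Agent.BpSpor.M5 Cfsg.Agent.H171.Odd

universe u v

/-- the criterion with `z` a square -/
theorem RadInv.inv1 {D : Type u} [Group D] [Finite D] {p : ℕ} [hp : Fact p.Prime] {z x : D} {N : Subgroup D} {A : Type v}
    [Group A] [hA : IsSimpleGroup A] {f : ↥(centralizer ({z} : Set D)) →* A} (h : Rad p z x N f)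
    (hAc : ¬ Group.IsSolvable A) (hp2 : p ≠ 2) {k : ↥(centralizer ({z} : Set D))} (hk : (k : D) * k = z) {r b : ℕ}
    (hr : r.Prime) (hr2 : r ≠ 2) (hrp : r ≠ p) (hinv : Inv1 p r A) (hb : ¬ r ^ (b + 1) ∣ Nat.card D) {s e : ℕ}
    (hs : s.Prime) (hsr : s ≠ r) (he : s ^ e ∣ Nat.card A) (w : ℕ → ℕ)
    (hw : ∀ k, 1 ≤ k → k ≤ b → ¬ s ^ (w k + 1) ∣ r ^ k - 1) (hW : ∑ i ∈ Finset.range b, w (i + 1) < e) : Inv1 p r D := by
  intro S hS hSi E hE hn
  by_contra hne
  obtain ⟨V, hV, hVr, hV1, hVN, hNV, hz⟩ := RadInv.exists_V h hAc hp2 hr hr2 hrp hinv hS hSi hE hn hne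
  exact hV1 (RadInv.no_V h hp2 hk hr hr2 hV hVr hNV hz
    (RadInv.not_solvable h hAc hr hb hs hsr he w hw hW hV hVr))

/-- a group of order prime to `r` -/
theorem inv1_of_not_dvd {G : Type*} [Group G] [Finite G] {s t : ℕ} (ht : t.Prime) (h : ¬ t ∣ Nat.card G) : Inv1 s t G := by
  have hF : Fact t.Prime := ⟨ht⟩
  intro S _ _ R hR _
  obtain ⟨n, hn⟩ := IsPGroup.iff_card.1 hR
  cases n with
  | zero => exact card_eq_one.1 (by rw [hn, pow_zero])
  | succ n => exact absurd ((dvd_pow_self t (Nat.succ_ne_zero n)).trans (hn ▸ card_subgroup_dvd_card R)) h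

/-- `Inv1` from the centralizers of the `s`-central elements of order `s` -/
theorem inv1_of_cc {G : Type*} [Group G] [Finite G] {s t a b : ℕ} (hs : s.Prime) (ht : t.Prime) (hst : s ≠ t)
    (ha : s ^ a ∣ Nat.card G) (hb : ¬ t ^ (b + 1) ∣ Nat.card G) (w : ℕ → ℕ)
    (hw : ∀ k, 1 ≤ k → k ≤ b → ¬ s ^ (w k + 1) ∣ t ^ k - 1) (hW : ∑ i ∈ Finset.range b, w (i + 1) < a)
    (h : ∀ x : G, orderOf x = s → ¬ s ∣ (centralizer ({x} : Set G)).index →
      Inv1 s t ↥(centralizer ({x} : Set G))) : Inv1 s t G := by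
  refine inv1_of_central hs ht hst ha hb w hw hW fun x hx S R hS hSi hxS hSC hR hRC hn => ?_
  have hxi : ¬ s ∣ (centralizer ({x} : Set G)).index := fun h1 => hSi (h1.trans (index_dvd_of_le hSC))
  have h1 : ¬ s ∣ (S.subgroupOf (centralizer ({x} : Set G))).index := by
    intro h1
    apply hSi
    rw [← relIndex_mul_index hSC]
    exact Dvd.dvd.mul_right h1 _
  have h2 := h x hx hxi (S.subgroupOf _) (hS.comap_of_injective _ (subtype_injective _)) h1 (R.subgroupOf _)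
    (hR.comap_of_injective _ (subtype_injective _)) (RadInv.le_normalizer_of_conj fun g hg e he =>
      mem_subgroupOf.2 (RadInv.conj_of_le_normalizer hn g (mem_subgroupOf.1 hg) e (mem_subgroupOf.1 he)))
  rw [subgroupOf_eq_bot, disjoint_iff, inf_eq_left.2 hRC] at h2
  exact h2

/-- `Inv1` for the centralizers of conjugate elements -/
theorem inv1_cent_of_conj {G : Type*} [Group G] {s t : ℕ} {x y g : G} (h : g * x * g⁻¹ = y)
    (hy : Inv1 s t ↥(centralizer ({y} : Set G))) : Inv1 s t ↥(centralizer ({x} : Set G)) := by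
  obtain ⟨⟨e⟩, -⟩ := LThreeMB.exists_XX_equiv h
  exact Inv1.congr e hy

end Cfsg.Agent.H573.Hall
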