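import Cfsg.Agent.H411.MThree
import Cfsg.Agent.LThreeMB.NegRoot
import Cfsg.Agent.H573.Hall.RadBot
import Cfsg.Agent.H573.Hall.Orb
import Cfsg.Agent.BpSpor.MFiveTop
import Cfsg.Agent.H171.Odd.CoRowsB
import Cfsg.Agent.MonsterP.EquivOf
import Cfsg.Agent.PreUniq.MonGen

/-!
# The Monster, `p = 3` (helper573)

* `exists_zero` : a `3`-central element of order 3 is conjugate to an element of fixed rank 0 of `C(z)` (helper411's proof);
* `inv_model` : `Inv1 3 r M` from `Inv1 3 r Suz`.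
-/

set_option autoImplicit false

namespace Cfsg.Agent.H573.Hall.MThr

open Subgroup Cfsg Cfsg.Agent.H171.Odd Cfsg.Agent.H749
open Cfsg.Agent.MonsterU Cfsg.Agent.LThree Cfsg.Agent.LThreeMB
open Cfsg.Agent.MonsterU.Ch
open Cfsg.Agent.MonsterU.Lam2 (L2 IsType)
open Cfsg.Agent.H411 (FiCent.exists_inv_of_iso)
open Cfsg.Agent.H411.MThree (iso_of_rank exists_lift_inv card_cent)
open Cfsg.Spor (Co1)

universe u

local instance : Fact (Nat.Prime 3) := ⟨Nat.prime_three⟩

section chart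

variable {G : Type u} [Group G] {Q : Subgroup G} {z : G} {eta : G → L2}
  {pi : Subgroup.centralizer ({z} : Set G) →* Co1}

/-- a `3`-central element of order 3 has fixed rank 0 -/
theorem exists_zero [Finite G] [IsSimpleGroup G] (h : Chart Q z eta pi) (I : CoOne) (h0 : ClassOf 1) (ht : TrNe z pi)
    (hpair : HasPair z pi)
    (hex : ∀ x : G, orderOf x = 3 → (∃ v : G, v * v = 1 ∧ v ≠ 1 ∧ v * x = x * v) →
      ∃ g : G, (g * z * g⁻¹) * x = x * (g * z * g⁻¹))
    (hcard : 3 ^ 20 ∣ Nat.card G) {d₁ : G} (hn₁ : orderOf d₁ = 3) (hidx : ¬ 3 ∣ (centralizer ({d₁} : Set G)).index) :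
    ∃ x₀ : Subgroup.centralizer ({z} : Set G), orderOf x₀ = 3 ∧ fr (pi x₀) = 1 ∧ ∃ k : G, k * d₁ * k⁻¹ = x₀ := by
  -- the element of fixed rank 12
  obtain ⟨s, hs, hfs, -, -⟩ := I.psu
  obtain ⟨x, hx, hxs⟩ := KPair.exists_order_three h hs
  have hxF : Spor.IsoFi24' (XX (x : G)) := (iso_of_rank h I hx).2 (by rw [hxs]; exact hfs)
  have hxo : orderOf (x : G) = 3 := by rw [Subgroup.orderOf_coe]; exact hx
  -- Sylow subgroups
  have hzx : IsPGroup 3 (zpowers (self (x : G))) := isPGroup_zpowers ⟨1, by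
    rw [pow_one]
    exact Subtype.ext (by show (x : G) ^ 3 = 1; rw [← hxo, pow_orderOf_eq_one])⟩
  obtain ⟨T, hT⟩ := hzx.exists_le_sylow
  have hxT : self (x : G) ∈ (T : Subgroup _) := hT (mem_zpowers _)
  have hT' : IsPGroup 3 ((T : Subgroup ↥(centralizer ({(x : G)} : Set G))).map (centralizer ({(x : G)} : Set G)).subtype) :=
    T.2.map _
  -- a conjugate of `T` centralises `d`
  obtain ⟨g₁, T1, hT1, hT1d, hTc⟩ := exists_conj_inf (p := 3) (k := 0) hT' (centralizer ({d₁} : Set G)) (by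
    rwa [zero_add, pow_one])
  rw [pow_zero, mul_one] at hTc
  have hT1e : T1 = (T : Subgroup ↥(centralizer ({(x : G)} : Set G))).map (centralizer ({(x : G)} : Set G)).subtype :=
    eq_of_le_of_card_ge hT1 (Nat.le_of_dvd Nat.card_pos hTc)
  rw [hT1e] at hT1d
  set d := g₁ * d₁ * g₁⁻¹ with hd
  have hdc : ∀ s ∈ (T : Subgroup ↥(centralizer ({(x : G)} : Set G))).map (centralizer ({(x : G)} : Set G)).subtype,
      s * d = d * s := by
    intro s hs
    have h1 : g₁⁻¹ * s * g₁ * d₁ = d₁ * (g₁⁻¹ * s * g₁) := mem_centralizer_singleton_iff.1 (hT1d s hs)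
    calc s * (g₁ * d₁ * g₁⁻¹) = g₁ * (g₁⁻¹ * s * g₁ * d₁) * g₁⁻¹ := by group
      _ = g₁ * (d₁ * (g₁⁻¹ * s * g₁)) * g₁⁻¹ := by rw [h1]
      _ = g₁ * d₁ * g₁⁻¹ * s := by group
  have hn : orderOf d = 3 := by
    rw [← hn₁]
    exact MulEquiv.orderOf_eq (MulAut.conj g₁) d₁
  have hdcard : 3 ^ 20 ∣ Nat.card ↥(centralizer ({d} : Set G)) := by
    rw [← card_cent_of_isConj (isConj_iff.2 ⟨g₁, rfl⟩ : IsConj d₁ d)]
    refine Nat.Coprime.dvd_of_dvd_mul_right (k := 3 ^ 20) (n := (centralizer ({d₁} : Set G)).index) ?_ ?_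
    · exact Nat.Coprime.pow_left 20 ((Nat.Prime.coprime_iff_not_dvd Nat.prime_three).2 hidx)
    · rw [Subgroup.card_mul_index]; exact hcard
  -- `d` commutes with an involution
  have hdx : d * (x : G) = x * d := (hdc _ ⟨self (x : G), hxT, rfl⟩).symm
  have hdinv : ∃ v : G, v * v = 1 ∧ v ≠ 1 ∧ v * d = d * v := by
    have hfX : Finite (XX (x : G)) := Quotient.finite _
    have h1 : ¬ 3 ∣ (centralizer ({mk (x : G) hdx} : Set (XX (x : G)))).index := by
      intro h2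
      have h3 : (T : Subgroup ↥(centralizer ({(x : G)} : Set G))).map (QuotientGroup.mk' (Zx (x : G))) ≤
          centralizer ({mk (x : G) hdx} : Set (XX (x : G))) := by
        rintro _ ⟨τ, hτ, rfl⟩
        rw [mem_centralizer_singleton_iff]
        have h4 : τ * ⟨d, mem_centralizer_singleton_iff.2 hdx⟩ = ⟨d, mem_centralizer_singleton_iff.2 hdx⟩ * τ :=
          Subtype.ext (hdc _ ⟨τ, hτ, rfl⟩)
        exact congrArg (QuotientGroup.mk' (Zx (x : G))) h4
      exact (T.mapSurjective (QuotientGroup.mk'_surjective (Zx (x : G)))).not_dvd_index (h2.trans (index_dvd_of_le h3))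
    obtain ⟨τ, h2, h3, h4⟩ := FiCent.exists_inv_of_iso hxF h1
    exact exists_lift_inv hxo hdx h2 h3 h4
  obtain ⟨g, hg⟩ := hex d hn hdinv
  -- a conjugate of `d` in `C(z)`
  have hd'z : (g⁻¹ * d * g) * z = z * (g⁻¹ * d * g) := by
    calc (g⁻¹ * d * g) * z = g⁻¹ * (d * (g * z * g⁻¹)) * g := by group
      _ = g⁻¹ * ((g * z * g⁻¹) * d) * g := by rw [hg]
      _ = z * (g⁻¹ * d * g) := by group
  let d' : centralizer ({z} : Set G) := ⟨g⁻¹ * d * g, mem_centralizer_singleton_iff.2 hd'z⟩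
  have hgd : g * (d' : G) * g⁻¹ = d := by
    show g * (g⁻¹ * d * g) * g⁻¹ = d
    group
  have hd' : orderOf d' = 3 := by
    rw [← Subgroup.orderOf_coe, ← hn, ← hgd]
    exact (orderOf_injective (MulAut.conj g).toMonoidHom (MulAut.conj g).injective (d' : G)).symm
  have hd'o : orderOf (d' : G) = 3 := by rw [Subgroup.orderOf_coe]; exact hd'
  have hd'card : 3 ^ 20 ∣ Nat.card ↥(centralizer ({(d' : G)} : Set G)) := by
    obtain ⟨⟨e⟩, -⟩ := exists_XX_equiv hgd
    rw [Nat.card_congr e.toEquiv]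
    exact hdcard
  -- the pair
  obtain ⟨x₀, u, g₀, hx₀, hfr₀, huz, hux, hne, hg₀⟩ := hpair
  have h812 : ∀ x : Subgroup.centralizer ({z} : Set G), orderOf x = 3 → (fr (pi x) = 2 ^ 8 ∨ fr (pi x) = 2 ^ 12) →
      IsSimpleGroup (XX (x : G)) ∧ Subgroup.center (XX (x : G)) ≠ ⊤ := fun x hx h2 =>
    ⟨(good_of_inputs h I hx h2).simple, (good_of_inputs h I hx h2).nc⟩
  have hconj : ∃ k : G, k * (d' : G) * k⁻¹ = x₀ := by
    rcases I.ranks (pi d') (orderOf_pi h hd') with h1 | h1 | h1 | h1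
    · obtain ⟨c, hc⟩ := h0 (pi d') (pi x₀) (orderOf_pi h hd') (orderOf_pi h hx₀) h1 hfr₀
      obtain ⟨k, hk⟩ := exists_conj_of_conj h (by rw [← hd', pow_orderOf_eq_one]) (by rw [← hx₀, pow_orderOf_eq_one]) hc
      exact ⟨k, congrArg Subtype.val hk⟩
    · exact conj_six h ht I.ranks I.six h812 hx₀ hfr₀ huz hux hne hg₀ hd' h1
    · exfalso
      obtain ⟨e⟩ := (iso_of_rank h I hd').1 h1
      have h2 := card_cent hd'o ((Nat.card_congr e.toEquiv).trans Cfsg.Agent.S1700.result.2)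
      rw [h2] at hd'card
      revert hd'card
      norm_num
    · exfalso
      obtain ⟨e⟩ := (iso_of_rank h I hd').2 h1
      have h2 := card_cent hd'o ((Nat.card_congr e.toEquiv).trans Cfsg.Agent.S1698.result.2)
      rw [h2] at hd'card
      revert hd'card
      norm_num
  obtain ⟨k, hk⟩ := hconj
  refine ⟨x₀, hx₀, hfr₀, k * g⁻¹ * g₁, ?_⟩
  rw [← hk]
  show k * g⁻¹ * g₁ * d₁ * (k * g⁻¹ * g₁)⁻¹ = k * (g⁻¹ * d * g) * k⁻¹
  rw [hd]
  group

/-- the facts on `Suz` -/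
theorem suz_facts {S : Type u} [Group S] (h : Spor.IsoSuz S) : IsSimpleGroup S ∧ Nat.card S = 448345497600 ∧
    ¬ Group.IsSolvable S := by
  obtain ⟨e⟩ := id h
  have hs : IsSimpleGroup S := (MulEquiv.isSimpleGroup_congr e).2 Cfsg.Agent.S1694.result.1
  have hc : Nat.card S = 448345497600 := by
    rw [Nat.card_congr e.toEquiv, Cfsg.Agent.S1694.result.2]
  refine ⟨hs, hc, ?_⟩
  intro h1
  have hf : Finite S := Nat.finite_of_card_ne_zero (by rw [hc]; norm_num)
  let _ : CommGroup S := { (inferInstance : Group S) with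
    mul_comm := (IsSimpleGroup.comm_iff_isSolvable (G := S)).2 h1 }
  have h3 : (Nat.card S).Prime := IsSimpleGroup.prime_card
  rw [hc] at h3
  revert h3
  norm_num

theorem inv_suz' {S : Type u} [Group S] (h : Spor.IsoSuz S) {r : ℕ} (hr : r.Prime) (hr2 : r ≠ 2) (hr3 : r ≠ 3) :
    Inv1 3 r S := by
  obtain ⟨h5, h7, h11, h13⟩ := inv_suz h
  obtain ⟨-, hc, -⟩ := suz_facts h
  have hf : Finite S := Nat.finite_of_card_ne_zero (by rw [hc]; norm_num)
  by_cases hd : r ∣ Nat.card S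
  · rw [hc, show 448345497600 = 2 ^ 13 * (3 ^ 7 * (5 ^ 2 * (7 * (11 * 13)))) by norm_num, hr.dvd_mul, hr.dvd_mul, hr.dvd_mul,
      hr.dvd_mul, hr.dvd_mul] at hd
    rcases hd with hd | hd | hd | hd | hd | hd
    · exact absurd ((Nat.prime_dvd_prime_iff_eq hr Nat.prime_two).1 (hr.dvd_of_dvd_pow hd)) hr2
    · exact absurd ((Nat.prime_dvd_prime_iff_eq hr Nat.prime_three).1 (hr.dvd_of_dvd_pow hd)) hr3
    · rwa [(Nat.prime_dvd_prime_iff_eq hr Nat.prime_five).1 (hr.dvd_of_dvd_pow hd)]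
    · rwa [(Nat.prime_dvd_prime_iff_eq hr (by norm_num)).1 hd]
    · rwa [(Nat.prime_dvd_prime_iff_eq hr (by norm_num)).1 hd]
    · rwa [(Nat.prime_dvd_prime_iff_eq hr (by norm_num)).1 hd]
  · exact inv1_of_not_dvd hr hd

/-- the centralizer of an element of fixed rank 0 -/
theorem inv_cent [Finite G] (h : Chart Q z eta pi) (I : CoOne) (ht : TrNe z pi)
    {x : Subgroup.centralizer ({z} : Set G)} (hx : orderOf x = 3) (hfr : fr (pi x) = 1) {k : G}
    (hkx : k * (x : G) = x * k) (hkk : k * k = z) {r b : ℕ} (hr : r.Prime) (hr2 : r ≠ 2) (hr3 : r ≠ 3)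
    (hb : ¬ r ^ (b + 1) ∣ Nat.card G) {s e : ℕ} (hs : s.Prime) (hsr : s ≠ r) (he : s ^ e ∣ 448345497600) (w : ℕ → ℕ)
    (hw : ∀ k, 1 ≤ k → k ≤ b → ¬ s ^ (w k + 1) ∣ r ^ k - 1) (hW : ∑ i ∈ Finset.range b, w (i + 1) < e) :
    Inv1 3 r ↥(centralizer ({(x : G)} : Set G)) := by
  have hS := I.suz _ (orderOf_pi h hx) hfr
  obtain ⟨f1, f2, f3⟩ := suz_facts hS
  obtain ⟨N, hN⟩ := BpSpor.M5.exists_rad h (by norm_num) hx hfr (fun d hd hc => isolated h ht hx hfr d hd hc) f1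
    (by rw [f2]; decide)
  have hkz : k * z = z * k := by rw [← hkk, mul_assoc]
  exact RadInv.inv1 hN f3 (by norm_num) (k := ⟨⟨k, mem_centralizer_singleton_iff.2 hkx⟩, mem_centralizer_singleton_iff.2
    (Subtype.ext hkz)⟩) (Subtype.ext hkk) hr hr2 hr3 (inv_suz' hS hr hr2 hr3)
    (fun h1 => hb (h1.trans (card_subgroup_dvd_card _))) hs hsr (by rw [f2]; exact he) w hw hW

end chart

/-! ### The model -/

open Cfsg.Agent.MonsterX Cfsg.Agent.MonsterX.InstData Cfsg.Agent.MonsterX.MainPack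
open Cfsg.Agent.MonsterP Cfsg.Agent.MonsterN
open Cfsg.Agent.MonsterX.MainBasic Cfsg.Agent.MonsterX.MainSimple Cfsg.Agent.MonsterX.Model

/-- a `3`-central element of order 3 of the model and its centralizer -/
theorem inv_model_cent {d : ↥InstData.M.G} (hd : orderOf d = 3) (hi : ¬ 3 ∣ (centralizer ({d} : Set ↥InstData.M.G)).index)
    {r b : ℕ} (hr : r.Prime) (hr2 : r ≠ 2) (hr3 : r ≠ 3)
    (hb : ¬ r ^ (b + 1) ∣ Nat.card ↥InstData.M.G) {s e : ℕ} (hs : s.Prime) (hsr : s ≠ r) (he : s ^ e ∣ 448345497600)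
    (w : ℕ → ℕ) (hw : ∀ k, 1 ≤ k → k ≤ b → ¬ s ^ (w k + 1) ∣ r ^ k - 1)
    (hW : ∑ i ∈ Finset.range b, w (i + 1) < e) : Inv1 3 r ↥(centralizer ({d} : Set ↥InstData.M.G)) := by
  have := Row.finite_model
  have := Row.simple_model
  obtain ⟨A, B, F⟩ := LThreeM.SigRow.facts_model
  have ht := KPair.trNe KDone.lft Row.cent (LThreeMBTr.traceNe KDone.lft LThreeMBTr.TensK.tens)
  have hC := KChart.chart KDone.lft Row.cent
  obtain ⟨x₀, hx₀, hfr, k, hk⟩ := exists_zero hC CoOneFin.coOne LThreeCo1.Ranks.zero ht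
    (KPair.hasPair KDone.lft Row.cent Row.second COct.octPair) (by
      rintro x hx ⟨v, hv, hv1, hc⟩
      exact LThreeM.FiRow.exists_z_of_comm (by rw [← hx, pow_orderOf_eq_one]) hv hv1 hc.symm) (by
      rw [F.card]
      norm_num) hd hi
  obtain ⟨A, hA, hAs⟩ := NegRoot.exists_root LThreeCo1.Ranks.zero (orderOf_pi hC hx₀) hfr
  obtain ⟨k', hk', hkk'⟩ := PreUniq.MonGen.exists_k KDone.lft Row.cent Nat.prime_three (by decide) hx₀ hfr hA hAs
  exact inv1_cent_of_conj hk (inv_cent hC CoOneFin.coOne ht hx₀ hfr hk' hkk' hr hr2 hr3 hb hs hsr he w hw hW)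

/-- **`Inv1 3 r` for the Monster** -/
theorem inv_m {G : Type*} [Group G] (h : Spor.IsoM G) {r : ℕ} (hr : r ∈ [5, 7, 11, 13, 17, 19, 23, 29, 31, 41, 47, 59, 71]) :
    Inv1 3 r G := by
  obtain ⟨e⟩ := h
  obtain ⟨f⟩ := Cfsg.Agent.MonsterP.Equiv.equiv
  refine Inv1.congr (e.trans f) ?_
  have := Row.finite_model
  have hc : Nat.card ↥InstData.M.G = _ := MonsterP.EquivOf.isM_model.2
  have key : ∀ {r b : ℕ} (s e : ℕ) (w v : ℕ → ℕ), r.Prime → r ≠ 2 → r ≠ 3 → ¬ r ^ (b + 1) ∣ Nat.card ↥InstData.M.G →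
      s.Prime → s ≠ r → s ^ e ∣ 448345497600 → (∀ k, 1 ≤ k → k ≤ b → ¬ s ^ (w k + 1) ∣ r ^ k - 1) →
      ∑ i ∈ Finset.range b, w (i + 1) < e → (∀ k, 1 ≤ k → k ≤ b → ¬ 3 ^ (v k + 1) ∣ r ^ k - 1) →
      ∑ i ∈ Finset.range b, v (i + 1) < 20 → Inv1 3 r ↥InstData.M.G := by
    intro r b s e w v hr hr2 hr3 hb hs hsr he hw hW hv hV
    exact inv1_of_cc Nat.prime_three hr hr3.symm (a := 20) (by rw [hc]; norm_num) hb v hv hV fun x hx hi =>
      inv_model_cent hx hi hr hr2 hr3 hb hs hsr he w hw hW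
  simp only [List.mem_cons, List.not_mem_nil, or_false] at hr
  rcases hr with rfl | rfl | rfl | rfl | rfl | rfl | rfl | rfl | rfl | rfl | rfl | rfl | rfl
  · exact key (b := 9) 3 7 (fun k => if k = 6 then 2 else if Even k then 1 else 0) (fun k => if k = 6 then 2 else if Even k then 1 else 0)
      (by norm_num) (by norm_num) (by norm_num) (by rw [hc]; norm_num) (by norm_num) (by norm_num) (by norm_num)
      (by decide) (by decide) (by decide) (by decide)
  · exact key (b := 6) 13 1 (fun _ => 0) (fun k => if k = 3 ∨ k = 6 then 2 else 1)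
      (by norm_num) (by norm_num) (by norm_num) (by rw [hc]; norm_num) (by norm_num) (by norm_num) (by norm_num)
      (by decide) (by decide) (by decide) (by decide)
  · exact key (b := 2) 13 1 (fun _ => 0) (fun _ => 1)
      (by norm_num) (by norm_num) (by norm_num) (by rw [hc]; norm_num) (by norm_num) (by norm_num) (by norm_num)
      (by decide) (by decide) (by decide) (by decide)
  · exact key (b := 3) 11 1 (fun _ => 0) (fun _ => 2)
      (by norm_num) (by norm_num) (by norm_num) (by rw [hc]; norm_num) (by norm_num) (by norm_num) (by norm_num)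
      (by decide) (by decide) (by decide) (by decide)
  all_goals
    exact key (b := 1) 13 1 (fun _ => 0) (fun _ => 3)
      (by norm_num) (by norm_num) (by norm_num) (by rw [hc]; norm_num) (by norm_num) (by norm_num) (by norm_num)
      (by decide) (by decide) (by decide) (by decide)

end Cfsg.Agent.H573.Hall.MThr
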