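import Cfsg.Agent.H573.Hall.MFive
import Cfsg.Agent.H573.Hall.MThree
import Cfsg.Agent.H171.Odd.Cert

/-!
# The Monster: the row of S4350 (helper573)

The certificate `okCert` runs through all sets of odd prime divisors; here it is checked by a search tree which stops at a
node as soon as one chosen prime dominates all remaining ones (29 nodes instead of `2 ^ 14` sets).
-/

set_option autoImplicit false
set_option maxRecDepth 100000

namespace Cfsg.Agent.H573.Hall

open Subgroup Cfsg Cfsg.Agent.H171.Odd Cfsg.Agent.H553.OddHall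

universe u

namespace MonTree

/-- one of the chosen primes `inc` works for `inc` and for all of `rest` -/
def prune (T inc rest : List (ℕ × ℕ)) : Bool :=
  (inc.any fun s => (inc.all fun t => Nat.beq t.1 s.1 || inT T s.1 t.1) &&
      (rest.all fun t => Nat.beq t.1 s.1 || inT T s.1 t.1)) ||
    (inc.any fun r => (inc.all fun p => dm r.1 p) && (rest.all fun p => dm r.1 p))

/-- the search tree -/
def tree (T : List (ℕ × ℕ)) : List (ℕ × ℕ) → List (ℕ × ℕ) → Bool
  | [], inc => okS T inc
  | a :: rest, inc => prune T inc (a :: rest) || (tree T rest inc && tree T rest (inc ++ [a]))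

theorem okS_of_prune {T inc rest σ : List (ℕ × ℕ)} (h : prune T inc rest = true) (hσ : σ.Sublist rest) :
    okS T (inc ++ σ) = true := by
  have hm : ∀ x ∈ inc ++ σ, x ∈ inc ∨ x ∈ rest := by
    intro x hx
    rcases List.mem_append.1 hx with h | h
    · exact Or.inl h
    · exact Or.inr (hσ.subset h)
  unfold prune at h
  unfold okS
  rw [Bool.or_eq_true] at h
  rw [Bool.or_eq_true, Bool.or_eq_true]
  rcases h with h | h
  · obtain ⟨s, hs, h1⟩ := List.any_eq_true.1 h
    rw [Bool.and_eq_true, List.all_eq_true, List.all_eq_true] at h1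
    exact Or.inl (Or.inr (List.any_eq_true.2 ⟨s, List.mem_append_left _ hs,
      List.all_eq_true.2 fun t ht => (hm t ht).elim (h1.1 t) (h1.2 t)⟩))
  · obtain ⟨s, hs, h1⟩ := List.any_eq_true.1 h
    rw [Bool.and_eq_true, List.all_eq_true, List.all_eq_true] at h1
    exact Or.inr (List.any_eq_true.2 ⟨s, List.mem_append_left _ hs,
      List.all_eq_true.2 fun t ht => (hm t ht).elim (h1.1 t) (h1.2 t)⟩)

theorem tree_spec {T : List (ℕ × ℕ)} : ∀ (rest inc : List (ℕ × ℕ)), tree T rest inc = true →
    ∀ σ : List (ℕ × ℕ), σ.Sublist rest → okS T (inc ++ σ) = true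
  | [], inc, h, σ, hσ => by
    rw [List.sublist_nil.1 hσ, List.append_nil]
    exact h
  | a :: rest, inc, h, σ, hσ => by
    unfold tree at h
    rw [Bool.or_eq_true] at h
    rcases h with h | h
    · exact okS_of_prune h hσ
    · rw [Bool.and_eq_true] at h
      cases hσ with
      | cons _ h1 => exact tree_spec rest inc h.1 σ h1
      | cons_cons _ h1 =>
        rename_i σ'
        have h2 := tree_spec rest (inc ++ [a]) h.2 σ' h1
        rwa [List.append_assoc, List.singleton_append] at h2

theorem okCert_of_tree {N : ℕ} {L T : List (ℕ × ℕ)}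
    (h : (Nat.beq ((2 * (L.map Prod.fst).prod) ^ 64 % N) 0 &&
      (L.all fun x => !(Nat.beq (N % x.1 ^ (x.2 + 1)) 0) && Nat.beq (N % x.1) 0) && tree T L []) = true) :
    okCert N L T = true := by
  unfold okCert
  rw [Bool.and_eq_true] at h ⊢
  refine ⟨h.1, List.all_eq_true.2 fun σ hσ => ?_⟩
  simpa using tree_spec L [] h.2 σ (List.mem_sublists.1 hσ)

theorem okM : okCert 808017424794512875886459904961710757005754368000000000
    [(47, 1), (59, 1), (29, 1), (3, 20), (17, 1), (41, 1), (23, 1), (5, 9), (71, 1), (13, 3), (7, 6), (19, 1),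
      (31, 1), (11, 2)]
    [(3, 5), (3, 7), (3, 11), (3, 13), (3, 17), (3, 19), (3, 23), (3, 31), (3, 41), (3, 71), (5, 7), (5, 11),
      (5, 13), (5, 19), (5, 31), (5, 71)] = true :=
  okCert_of_tree (by decide +kernel)

end MonTree

/-- **the Monster** -/
theorem odd_m {G : Type u} [Group G] [Finite G] [IsSimpleGroup G] (hna : ¬ IsMulCommutative G)
    (hind : OddInd G) (h : Cfsg.Spor.IsoM G) : OddC G := by
  have hc : Nat.card G = 808017424794512875886459904961710757005754368000000000 := by
    obtain ⟨e⟩ := h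
    rw [Nat.card_congr e.toEquiv, Cfsg.Agent.MonsterP.Equiv.isM.2]
  refine oddC_of_cert hna hind hc ?_ ?_ MonTree.okM
  · simp; norm_num
  · simp only [List.mem_cons, List.not_mem_nil, or_false]
    rintro x (rfl | rfl | rfl | rfl | rfl | rfl | rfl | rfl | rfl | rfl | rfl | rfl | rfl | rfl | rfl | rfl)
    exacts [MThr.inv_m h (by simp), MThr.inv_m h (by simp), MThr.inv_m h (by simp), MThr.inv_m h (by simp),
      MThr.inv_m h (by simp), MThr.inv_m h (by simp), MThr.inv_m h (by simp), MThr.inv_m h (by simp),
      MThr.inv_m h (by simp), MThr.inv_m h (by simp), MFiv.inv_m h (by simp), MFiv.inv_m h (by simp),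
      MFiv.inv_m h (by simp), MFiv.inv_m h (by simp), MFiv.inv_m h (by simp), MFiv.inv_m h (by simp)]

end Cfsg.Agent.H573.Hall
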