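import Cfsg.Agent.H171.Odd.Tools

/-!
# Reduction to the centralizer of a central element (helper573)
-/

set_option autoImplicit false

namespace Cfsg.Agent.H573.Hall

open Subgroup Cfsg Cfsg.Agent.H171.Odd

universe u

variable {G : Type u} [Group G]

/-- a `t`-subgroup normalised by a Sylow `s`-subgroup `S` is centralised by an element of order `s` of the center of `S` -/
theorem inv1_of_central [Finite G] {s t a b : ℕ} (hs : s.Prime) (ht : t.Prime) (hst : s ≠ t)
    (ha : s ^ a ∣ Nat.card G) (hb : ¬ t ^ (b + 1) ∣ Nat.card G) (w : ℕ → ℕ)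
    (hw : ∀ k, 1 ≤ k → k ≤ b → ¬ s ^ (w k + 1) ∣ t ^ k - 1) (hW : ∑ i ∈ Finset.range b, w (i + 1) < a)
    (h : ∀ x : G, orderOf x = s → ∀ S R : Subgroup G, IsPGroup s S → ¬ s ∣ S.index → x ∈ S →
      S ≤ centralizer ({x} : Set G) → IsPGroup t R → R ≤ centralizer ({x} : Set G) →
      S ≤ normalizer (R : Set G) → R = ⊥) : Inv1 s t G := by
  have hfs : Fact s.Prime := ⟨hs⟩
  have hft : Fact t.Prime := ⟨ht⟩
  intro S hS hSi R hR hn
  by_contra hne
  obtain ⟨k0, hk0, hc0⟩ := card_pgroup hb hR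
  have hd := card_dvd_kernel hst hb w hw hR b S hS hn (fun k j hk _ => by
    have : k = k0 := Nat.pow_right_injective ht.two_le (by show t ^ k = t ^ k0; rw [← hk, ← hc0])
    omega)
  set K := S ⊓ centralizer (R : Set G) with hK
  have hK1 : K ≠ ⊥ := by
    intro h0
    rw [h0, card_bot, one_mul] at hd
    have h1 := (card_sylow ha hSi).trans hd
    have h3 := (Nat.pow_dvd_pow_iff_le_right hs.one_lt).1 h1
    omega
  -- a central element of `S` in `K`
  have hKn : (K.subgroupOf S).Normal := by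
    refine ⟨fun x hx g => ?_⟩
    rw [mem_subgroupOf] at hx ⊢
    refine ⟨(g * x * g⁻¹).2, mem_centralizer_iff.2 fun y hy => ?_⟩
    have h1 : (g : G)⁻¹ * y * g ∈ R := by
      have := (mem_normalizer_iff.1 (hn (S.inv_mem g.2)) y).1 hy
      simpa using this
    have h3 := mem_centralizer_iff.1 hx.2 _ h1
    have h3 : (g : G)⁻¹ * y * g * x = x * ((g : G)⁻¹ * y * g) := h3
    show y * ((g : G) * x * (g : G)⁻¹) = (g : G) * x * (g : G)⁻¹ * y
    calc y * ((g : G) * x * (g : G)⁻¹) = g * ((g : G)⁻¹ * y * g * x) * (g : G)⁻¹ := by group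
      _ = g * (x * ((g : G)⁻¹ * y * g)) * (g : G)⁻¹ := by rw [h3]
      _ = (g : G) * x * (g : G)⁻¹ * y := by group
  have hKS1 : K.subgroupOf S ≠ ⊥ := by
    intro h0
    rw [subgroupOf_eq_bot, disjoint_iff, inf_eq_left.2 (show K ≤ S from inf_le_left)] at h0
    exact hK1 h0
  obtain ⟨⟨z, hzS⟩, hzK, hzC, hord⟩ := Transfer.PGroupNormal.exists_mem_inf_center_orderOf hS _ hKS1
  rw [Subgroup.orderOf_mk] at hord
  have hSC : S ≤ centralizer ({z} : Set G) := by
    intro g hg
    rw [mem_centralizer_singleton_iff]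
    have := mem_center_iff.1 hzC ⟨g, hg⟩
    exact congrArg Subtype.val this
  have hRC : R ≤ centralizer ({z} : Set G) := by
    intro y hy
    rw [mem_centralizer_singleton_iff]
    exact mem_centralizer_iff.1 (mem_subgroupOf.1 hzK).2 y hy
  exact hne (h z hord S R hS hSi hzS hSC hR hRC hn)

end Cfsg.Agent.H573.Hall
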