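import Cfsg.Agent.H573.Hall.RadBot
import Cfsg.Agent.H573.Hall.Orb

/-!
# A central element in the commutator subgroup (helper573)

`inv1_of_comm` : if `x` is central in a Sylow `s`-subgroup, lies in the commutator subgroup of an `s`-subgroup of `C(x)`, and
`|S : C_S(R)| ≤ s ^ 2` for the `t`-subgroups `R` normalised by `S`, then `Inv1 s t C(x)` gives `Inv1 s t G`.
-/

set_option autoImplicit false

namespace Cfsg.Agent.H573.Hall

open Subgroup Cfsg Cfsg.Agent.H171.Odd
open scoped commutatorElement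

universe u

variable {G : Type u} [Group G]

/-- a normal subgroup of index dividing `p ^ 2` contains the commutator subgroup -/
theorem commutator_le_of_card [Finite G] {p : ℕ} [hp : Fact p.Prime] {S K : Subgroup G}
    (hn : ∀ s ∈ S, ∀ k ∈ K, s * k * s⁻¹ ∈ K) (hd : Nat.card ↥S ∣ Nat.card ↥(S ⊓ K) * p ^ 2) : ⁅S, S⁆ ≤ K := by
  have hKn : (K.subgroupOf S).Normal := ⟨fun k hk g => mem_subgroupOf.2 (hn g g.2 k (mem_subgroupOf.1 hk))⟩
  have hc : Nat.card ↥(K.subgroupOf S) = Nat.card ↥(S ⊓ K) := by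
    rw [← card_map_of_injective S.subtype_injective, subgroupOf_map_subtype, inf_comm]
  have hq : Nat.card (↥S ⧸ K.subgroupOf S) ∣ p ^ 2 := by
    have h1 := card_eq_card_quotient_mul_card_subgroup (K.subgroupOf S)
    rw [h1, hc, mul_comm] at hd
    exact Nat.dvd_of_mul_dvd_mul_left Nat.card_pos hd
  have hcomm : ∀ a b : ↥S ⧸ K.subgroupOf S, a * b = b * a := by
    obtain ⟨j, hj, hcj⟩ := (Nat.dvd_prime_pow hp.out).1 hq
    have hfin : Finite (↥S ⧸ K.subgroupOf S) := Quotient.finite _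
    interval_cases j
    · intro a b
      rw [pow_zero, Nat.card_eq_one_iff_unique] at hcj
      exact (hcj.1).elim _ _
    · rw [pow_one] at hcj
      have := isCyclic_of_prime_card hcj
      exact fun a b => (IsCyclic.isMulCommutative (α := ↥S ⧸ K.subgroupOf S)).is_comm.comm a b
    · exact fun a b => (IsPGroup.isMulCommutative_of_card_eq_prime_sq hcj).is_comm.comm a b
  rw [commutator_le]
  intro a ha b hb
  have h1 : (QuotientGroup.mk (⁅(⟨a, ha⟩ : S), ⟨b, hb⟩⁆) : ↥S ⧸ K.subgroupOf S) = 1 := by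
    rw [commutatorElement_def, QuotientGroup.mk_mul, QuotientGroup.mk_mul, QuotientGroup.mk_mul, QuotientGroup.mk_inv,
      QuotientGroup.mk_inv, hcomm (QuotientGroup.mk _) (QuotientGroup.mk _), mul_inv_cancel_right, mul_inv_cancel]
  exact mem_subgroupOf.1 ((QuotientGroup.eq_one_iff _).1 h1)

/-- conjugating the subgroups -/
theorem map_conj_normalizer {S R : Subgroup G} (hn : S ≤ normalizer (R : Set G)) (g : G) :
    S.map (MulAut.conj g).toMonoidHom ≤ normalizer (R.map (MulAut.conj g).toMonoidHom : Set G) := by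
  refine RadInv.le_normalizer_of_conj ?_
  rintro _ ⟨s, hs, rfl⟩ _ ⟨r, hr, rfl⟩
  exact ⟨s * r * s⁻¹, RadInv.conj_of_le_normalizer hn s hs r hr, by rw [map_mul, map_mul, map_inv]⟩

/-- the main case: `S ≤ C(x)` -/
theorem bot_of_comm [Finite G] {s t b : ℕ} [hs : Fact s.Prime] [ht : Fact t.Prime] (hst : s ≠ t)
    (hb : ¬ t ^ (b + 1) ∣ Nat.card G) (w : ℕ → ℕ)
    (hw : ∀ k, 1 ≤ k → k ≤ b → ¬ s ^ (w k + 1) ∣ t ^ k - 1) (hW : ∑ i ∈ Finset.range b, w (i + 1) ≤ 2)
    {x : G} {S R P : Subgroup G} (hS : IsPGroup s S) (hSi : ¬ s ∣ S.index) (hSC : S ≤ centralizer ({x} : Set G))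
    (hP : IsPGroup s P) (hPC : P ≤ centralizer ({x} : Set G)) (hxP : x ∈ ⁅P, P⁆)
    (hR : IsPGroup t R) (hn : S ≤ normalizer (R : Set G))
    (hinv : Inv1 s t ↥(centralizer ({x} : Set G))) : R = ⊥ := by
  -- `x ∈ [S, S]`
  have hSi' : ¬ s ∣ (S.subgroupOf (centralizer ({x} : Set G))).index := by
    intro h1
    apply hSi
    rw [← relIndex_mul_index hSC]
    exact Dvd.dvd.mul_right h1 _
  have hxS : x ∈ ⁅S, S⁆ := by
    obtain ⟨c, T1, hT1, hT1c, hTc⟩ := exists_conj_inf (p := s) (k := 0) (T := P.subgroupOf (centralizer ({x} : Set G)))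
      (hP.comap_of_injective _ (subtype_injective _)) (S.subgroupOf (centralizer ({x} : Set G))) (by
        rwa [zero_add, pow_one])
    rw [pow_zero, mul_one] at hTc
    rw [eq_of_le_of_card_ge hT1 (Nat.le_of_dvd Nat.card_pos hTc)] at hT1c
    have h1 : P.map (MulAut.conj (c : G)⁻¹).toMonoidHom ≤ S := by
      rintro _ ⟨g, hg, rfl⟩
      have h2 := mem_subgroupOf.1 (hT1c ⟨g, hPC hg⟩ (mem_subgroupOf.2 hg))
      have h3 : (MulAut.conj (c : G)⁻¹).toMonoidHom g = (c : G)⁻¹ * g * c := by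
        show (c : G)⁻¹ * g * (c : G)⁻¹⁻¹ = _
        rw [inv_inv]
      rw [h3]
      exact h2
    have h2 : (MulAut.conj (c : G)⁻¹).toMonoidHom x ∈ ⁅P, P⁆.map (MulAut.conj (c : G)⁻¹).toMonoidHom := mem_map_of_mem _ hxP
    rw [map_commutator] at h2
    have h3 : (MulAut.conj (c : G)⁻¹).toMonoidHom x = x := by
      have h4 : (c : G) * x = x * c := mem_centralizer_singleton_iff.1 c.2
      show (c : G)⁻¹ * x * (c : G)⁻¹⁻¹ = x
      calc (c : G)⁻¹ * x * (c : G)⁻¹⁻¹ = (c : G)⁻¹ * (x * c) := by group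
        _ = (c : G)⁻¹ * (c * x) := by rw [h4]
        _ = x := by group
    rw [h3] at h2
    exact commutator_mono h1 h1 h2
  -- `x` centralises `R`
  obtain ⟨k0, hk0, hc0⟩ := card_pgroup hb hR
  have hd := card_dvd_kernel hst hb w hw hR b S hS hn (fun k j hk _ => by
    have : k = k0 := Nat.pow_right_injective ht.out.two_le (by show t ^ k = t ^ k0; rw [← hk, ← hc0])
    omega)
  have hxR : x ∈ centralizer (R : Set G) := by
    refine commutator_le_of_card (S := S) (K := centralizer (R : Set G)) ?_ (hd.trans (Nat.mul_dvd_mul_left _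
      (pow_dvd_pow s hW))) hxS
    intro g hg k hk
    rw [mem_centralizer_iff]
    intro r hr
    have h1 := mem_centralizer_iff.1 hk (g⁻¹ * r * g) (by
      have := RadInv.conj_of_le_normalizer hn g⁻¹ (S.inv_mem hg) r hr
      rwa [inv_inv] at this)
    calc r * (g * k * g⁻¹) = g * ((g⁻¹ * r * g) * k) * g⁻¹ := by group
      _ = g * (k * (g⁻¹ * r * g)) * g⁻¹ := by rw [h1]
      _ = g * k * g⁻¹ * r := by group
  have hRC : R ≤ centralizer ({x} : Set G) := by
    intro r hr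
    rw [mem_centralizer_singleton_iff]
    exact mem_centralizer_iff.1 hxR r hr
  have h2 := hinv (S.subgroupOf _) (hS.comap_of_injective _ (subtype_injective _)) hSi' (R.subgroupOf _)
    (hR.comap_of_injective _ (subtype_injective _)) (RadInv.le_normalizer_of_conj fun g hg e he =>
      mem_subgroupOf.2 (RadInv.conj_of_le_normalizer hn g (mem_subgroupOf.1 hg) e (mem_subgroupOf.1 he)))
  rw [subgroupOf_eq_bot, disjoint_iff, inf_eq_left.2 hRC] at h2
  exact h2

/-- **`Inv1` from one `s`-central element lying in a commutator subgroup.** -/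
theorem inv1_of_comm [Finite G] {s t b : ℕ} (hs : s.Prime) (ht : t.Prime) (hst : s ≠ t)
    (hb : ¬ t ^ (b + 1) ∣ Nat.card G) (w : ℕ → ℕ)
    (hw : ∀ k, 1 ≤ k → k ≤ b → ¬ s ^ (w k + 1) ∣ t ^ k - 1) (hW : ∑ i ∈ Finset.range b, w (i + 1) ≤ 2)
    {x : G} {P : Subgroup G} (hxi : ¬ s ∣ (centralizer ({x} : Set G)).index)
    (hP : IsPGroup s P) (hPC : P ≤ centralizer ({x} : Set G)) (hxP : x ∈ ⁅P, P⁆)
    (hinv : Inv1 s t ↥(centralizer ({x} : Set G))) : Inv1 s t G := by
  have hfs : Fact s.Prime := ⟨hs⟩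
  have hft : Fact t.Prime := ⟨ht⟩
  intro S hS hSi R hR hn
  obtain ⟨g, T1, hT1, hT1c, hTc⟩ := exists_conj_inf (p := s) (k := 0) (T := S) hS (centralizer ({x} : Set G)) (by
    rwa [zero_add, pow_one])
  rw [pow_zero, mul_one] at hTc
  rw [eq_of_le_of_card_ge hT1 (Nat.le_of_dvd Nat.card_pos hTc)] at hT1c
  have h1 : S.map (MulAut.conj g⁻¹).toMonoidHom ≤ centralizer ({x} : Set G) := by
    rintro _ ⟨a, ha, rfl⟩
    have h3 : (MulAut.conj g⁻¹).toMonoidHom a = g⁻¹ * a * g := by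
      show g⁻¹ * a * g⁻¹⁻¹ = _
      rw [inv_inv]
    rw [h3]
    exact hT1c a ha
  have h2 : (S.map (MulAut.conj g⁻¹).toMonoidHom).index = S.index := Subgroup.index_map_equiv S (MulAut.conj g⁻¹)
  have h3 := bot_of_comm hst hb w hw hW (hS.map _) (by rw [h2]; exact hSi) h1 hP hPC hxP
    (hR.map (MulAut.conj g⁻¹).toMonoidHom) (map_conj_normalizer hn g⁻¹) hinv
  exact (Subgroup.map_eq_bot_iff_of_injective _ (MulAut.conj g⁻¹).injective).1 h3

end Cfsg.Agent.H573.Hall
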