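import Cfsg.Agent.H171.Odd.Tools
import Cfsg.Agent.H171.Odd.Cert
import Cfsg.Agent.LThreeFi22.Inst
import Cfsg.Agent.PreUniqCo.FiTwentyTwo

/-!
# Hall subgroups of odd order of `Fi22` (helper573)
-/

set_option autoImplicit false
set_option maxRecDepth 100000

namespace Cfsg.Agent.H573.Hall

open Subgroup Cfsg Cfsg.Agent.H171.Odd Cfsg.Agent.H553.OddHall
open Cfsg.Agent.LThreeFi22

universe u

theorem inv_fi22 {G : Type u} [Group G] (h : Cfsg.Spor.IsoFi22 G) :
    Inv1 3 5 G ∧ Inv1 3 7 G ∧ Inv1 3 11 G ∧ Inv1 3 13 G := by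
  obtain ⟨e⟩ := h
  have C := Inst.ctx e
  have hfin : Finite G := Nat.finite_of_card_ne_zero (by rw [C.card]; norm_num)
  refine ⟨?_, ?_, ?_, ?_⟩
  · refine inv1_of_cent (a := 2) (b := 2) (w := 1) (by norm_num) (by norm_num) (by rw [C.card]; norm_num)
      (by rw [C.card]; norm_num) (fun k h1 h2 => by interval_cases k <;> norm_num) fun y hy => ?_
    exact C.nine_five (by rw [← hy, pow_orderOf_eq_one]) (by rintro rfl; rw [orderOf_one] at hy; norm_num at hy)
  · refine inv1_of_cent (a := 2) (b := 1) (w := 1) (by norm_num) (by norm_num) (by rw [C.card]; norm_num)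
      (by rw [C.card]; norm_num) (fun k h1 h2 => by interval_cases k; norm_num) fun y hy => ?_
    exact C.nine_seven (by rw [← hy, pow_orderOf_eq_one]) (by rintro rfl; rw [orderOf_one] at hy; norm_num at hy)
  · refine inv1_of_cent (a := 1) (b := 1) (w := 0) (by norm_num) (by norm_num) (by rw [C.card]; norm_num)
      (by rw [C.card]; norm_num) (fun k h1 h2 => by interval_cases k; norm_num) fun y hy => ?_
    intro hd
    have h3 : Fact (Nat.Prime 3) := ⟨by norm_num⟩
    rw [pow_one] at hd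
    obtain ⟨⟨x, hx⟩, hx3⟩ := exists_prime_orderOf_dvd_card' 3 hd
    rw [Subgroup.orderOf_mk] at hx3
    have := C.eleven (y := y) (x := x) (by rw [← hy, pow_orderOf_eq_one])
      (by rintro rfl; rw [orderOf_one] at hy; norm_num at hy) (by rw [← hx3, pow_orderOf_eq_one])
      (mem_centralizer_singleton_iff.1 hx)
    rw [this, orderOf_one] at hx3
    norm_num at hx3
  · refine inv1_of_cent (a := 1) (b := 1) (w := 1) (by norm_num) (by norm_num) (by rw [C.card]; norm_num)
      (by rw [C.card]; norm_num) (fun k h1 h2 => by interval_cases k; norm_num) fun y hy => ?_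
    intro hd
    have h3 : Fact (Nat.Prime 3) := ⟨by norm_num⟩
    rw [pow_one] at hd
    obtain ⟨⟨x, hx⟩, hx3⟩ := exists_prime_orderOf_dvd_card' 3 hd
    rw [Subgroup.orderOf_mk] at hx3
    have := Cfsg.Agent.PreUniqCo.FiTwentyTwo.thirteen e hy (mem_centralizer_singleton_iff.1 hx)
    have h1 := orderOf_dvd_of_pow_eq_one this
    rw [hx3] at h1
    norm_num at h1

theorem odd_fi22 {G : Type u} [Group G] [Finite G] [IsSimpleGroup G] (hna : ¬ IsMulCommutative G)
    (hind : OddInd G) (h : Cfsg.Spor.IsoFi22 G) : OddC G := by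
  obtain ⟨h5, h7, h11, h13⟩ := inv_fi22 h
  obtain ⟨e⟩ := h
  refine oddC_of_cert hna hind (Inst.ctx e).card (L := [(3, 9), (5, 2), (7, 1), (11, 1), (13, 1)])
    (T := [(3, 5), (3, 7), (3, 11), (3, 13)]) ?_ ?_ (by decide +kernel)
  · simp; norm_num
  · simp only [List.mem_cons, List.not_mem_nil, or_false]
    rintro x (rfl | rfl | rfl | rfl)
    exacts [h5, h7, h11, h13]

end Cfsg.Agent.H573.Hall
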