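import Cfsg.Agent.BpSpor.MFiveAbs
import Cfsg.Agent.H573.Hall.Central
import Cfsg.Agent.H573.Hall.Lib

/-!
# `r`-subgroups normalised by a Sylow `p`-subgroup in the situation `Rad` (helper573)

`D = N C_D(z)`, `C_N(z) = ⟨x⟩`, `C_D(z) / ⟨x, z⟩ = A` simple. An `r`-subgroup `E ≠ 1` normalised by a Sylow `p`-subgroup `S`
of `D` gives (if `Inv1 p r A`) a normal `r`-subgroup `V ≠ 1` inverted by `z`; if `C_D(V)` is not solvable, it contains `S`, and
`z` is not a square of an element of `C_D(z)`.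
-/

set_option autoImplicit false

namespace Cfsg.Agent.H573.Hall.RadInv

open Subgroup Cfsg Cfsg.Agent.BpSpor.M5 Cfsg.Agent.H171.Odd

universe u v

theorem le_normalizer_of_conj {G : Type*} [Group G] {S E : Subgroup G} (h : ∀ g ∈ S, ∀ e ∈ E, g * e * g⁻¹ ∈ E) :
    S ≤ normalizer (E : Set G) := by
  intro g hg
  rw [mem_normalizer_iff]
  intro e
  refine ⟨fun he => h g hg e he, fun he => ?_⟩
  have h1 := h g⁻¹ (S.inv_mem hg) _ he
  have h2 : g⁻¹ * (g * e * g⁻¹) * g⁻¹⁻¹ = e := by group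
  rwa [h2] at h1

theorem conj_of_le_normalizer {G : Type*} [Group G] {S E : Subgroup G} (h : S ≤ normalizer (E : Set G)) :
    ∀ g ∈ S, ∀ e ∈ E, g * e * g⁻¹ ∈ E := fun _ hg _ he => (mem_normalizer_iff.1 (h hg) _).1 he

variable {D : Type u} [Group D] [Finite D] {p : ℕ} [hp : Fact p.Prime] {z x : D} {N : Subgroup D} {A : Type v} [Group A]
  [hA : IsSimpleGroup A] {f : ↥(centralizer ({z} : Set D)) →* A}

/-- the map onto `A` -/
theorem exists_map (h : Rad p z x N f) (hAc : ¬ Group.IsSolvable A) : ∃ ψ : D →* A, Function.Surjective ψ ∧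
    (∀ c : ↥(centralizer ({z} : Set D)), ψ (c : D) = f c) ∧ (∀ n ∈ N, ψ n = 1) ∧
    ∀ g, ψ g = 1 → ∃ n ∈ N, g = n ∨ g = n * z := by
  have hN := h.nN
  let α : ↥(centralizer ({z} : Set D)) →* D ⧸ N := (QuotientGroup.mk' N).comp (centralizer ({z} : Set D)).subtype
  have hα : Function.Surjective α := by
    intro y
    obtain ⟨g, rfl⟩ := QuotientGroup.mk'_surjective N y
    obtain ⟨n, hn, c, hc, rfl⟩ := h.sup g
    refine ⟨⟨c, mem_centralizer_singleton_iff.2 hc⟩, ?_⟩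
    show QuotientGroup.mk' N c = QuotientGroup.mk' N (n * c)
    rw [map_mul, show QuotientGroup.mk' N n = 1 from (QuotientGroup.eq_one_iff _).2 hn, one_mul]
  have hle : ∀ c, α c = 1 → f c = 1 := by
    intro c hc
    have h1 : (c : D) ∈ N := (QuotientGroup.eq_one_iff _).1 hc
    obtain ⟨i, hi⟩ := mem_zpowers_iff.1 (h.cN c h1 (mem_centralizer_singleton_iff.1 c.2))
    refine h.f_central hAc fun g => Subtype.ext ?_
    show (g : D) * c = c * g
    rw [← hi]
    exact h.xzc i g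
  obtain ⟨ρ, hρ⟩ := LThreeMB.exists_fac α hα f (fun a ha => hle a ha)
  refine ⟨ρ.comp (QuotientGroup.mk' N), ?_, hρ, ?_, ?_⟩
  · intro a
    obtain ⟨c, rfl⟩ := h.surj a
    exact ⟨c, hρ c⟩
  · intro n hn
    show ρ (QuotientGroup.mk' N n) = 1
    rw [show QuotientGroup.mk' N n = 1 from (QuotientGroup.eq_one_iff _).2 hn, map_one]
  · intro g hg
    obtain ⟨n, hn, c, hc, rfl⟩ := h.sup g
    have h1 : f ⟨c, mem_centralizer_singleton_iff.2 hc⟩ = 1 := by
      rw [← hρ]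
      have h2 : ρ (QuotientGroup.mk' N (n * c)) = 1 := hg
      rw [map_mul, show QuotientGroup.mk' N n = 1 from (QuotientGroup.eq_one_iff _).2 hn, one_mul] at h2
      exact h2
    obtain ⟨i, hi⟩ := h.ker _ h1
    have hi' : c = x ^ i ∨ c = x ^ i * z := hi
    rcases hi' with hi | hi
    · exact ⟨n * x ^ i, N.mul_mem hn (N.zpow_mem h.xN i), Or.inl (by rw [hi])⟩
    · exact ⟨n * x ^ i, N.mul_mem hn (N.zpow_mem h.xN i), Or.inr (by rw [hi]; group)⟩

omit [Finite D] hp hA in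
/-- an element of odd order of `N ∪ N z` lies in `N` -/
theorem mem_of_odd (h : Rad p z x N f) {g : D} (hg : ∃ n ∈ N, g = n ∨ g = n * z) {m : ℕ} (hm : Odd m) (hgm : g ^ m = 1) :
    g ∈ N := by
  have hN := h.nN
  obtain ⟨n, hn, rfl | rfl⟩ := hg
  · exact hn
  · rw [← QuotientGroup.eq_one_iff]
    have h1 : ((n * z : D) : D ⧸ N) = (z : D ⧸ N) := by
      rw [QuotientGroup.mk_mul, (QuotientGroup.eq_one_iff n).2 hn, one_mul]
    rw [h1]
    have h2 : (z : D ⧸ N) ^ 2 = 1 := by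
      rw [pow_two, ← QuotientGroup.mk_mul, h.zz]; rfl
    have h3 : (z : D ⧸ N) ^ m = 1 := by
      rw [← h1, ← QuotientGroup.mk_pow, hgm]; rfl
    obtain ⟨j, rfl⟩ := hm
    rw [pow_succ, pow_mul, h2, one_pow, one_mul] at h3
    exact h3

/-- **the normal `r`-subgroup** -/
theorem exists_V (h : Rad p z x N f) (hAc : ¬ Group.IsSolvable A) (hp2 : p ≠ 2) {r : ℕ} (hr : r.Prime) (hr2 : r ≠ 2)
    (hrp : r ≠ p) (hinv : Inv1 p r A) {S E : Subgroup D} (hS : IsPGroup p ↥S) (hSi : ¬ p ∣ S.index) (hE : IsPGroup r ↥E)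
    (hn : S ≤ normalizer (E : Set D)) (hne : E ≠ ⊥) :
    ∃ V : Subgroup D, V.Normal ∧ IsPGroup r ↥V ∧ V ≠ ⊥ ∧ V ≤ N ∧ N ≤ centralizer (V : Set D) ∧
      ∀ v ∈ V, z * v * z⁻¹ = v⁻¹ := by
  have hrF : Fact r.Prime := ⟨hr⟩
  have hN := h.nN
  obtain ⟨ψ, hψ, hψf, hψN, hψk⟩ := exists_map h hAc
  -- `E ≤ N`
  have hE1 : E.map ψ = ⊥ := by
    refine hinv (S.map ψ) (hS.map ψ) (fun hd => hSi (hd.trans (index_map_dvd S hψ))) (E.map ψ) (hE.map ψ) ?_
    refine le_normalizer_of_conj ?_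
    rintro _ ⟨s, hs, rfl⟩ _ ⟨e, he, rfl⟩
    exact ⟨s * e * s⁻¹, conj_of_le_normalizer hn s hs e he, by rw [map_mul, map_mul, map_inv]⟩
  have hEN : E ≤ N := by
    intro e he
    have h1 : ψ e = 1 := by
      have h2 : ψ e ∈ E.map ψ := mem_map_of_mem ψ he
      rwa [hE1, mem_bot] at h2
    obtain ⟨k, hk⟩ := hE ⟨e, he⟩
    exact mem_of_odd h (hψk e h1) ((hr.odd_of_ne_two hr2).pow (n := k)) (congrArg Subtype.val hk)
  -- the Sylow `r`-subgroup of `N`
  have hnil : Group.IsNilpotent ↥N := h.isNilpotent hp2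
  obtain ⟨P⟩ : Nonempty (Sylow r ↥N) := inferInstance
  have hPn : (P : Subgroup ↥N).Normal := inferInstance
  have hPc : (P : Subgroup ↥N).Characteristic := Sylow.characteristic_of_normal P hPn
  let V : Subgroup D := (P : Subgroup ↥N).map N.subtype
  have hVn : V.Normal := ConjAct.normal_of_characteristic_of_normal
  have hVp : IsPGroup r ↥V := P.isPGroup'.map _
  have hVN : V ≤ N := map_subtype_le _
  have hEV : E ≤ V := by
    have h1 : IsPGroup r ↥(E.subgroupOf N) := hE.comap_of_injective N.subtype N.subtype_injective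
    obtain ⟨P', hP'⟩ := h1.exists_le_sylow
    have : Subsingleton (Sylow r ↥N) := by
      have := Sylow.unique_of_normal P hPn
      infer_instance
    rw [Subsingleton.elim P' P] at hP'
    intro e he
    exact ⟨⟨e, hEN he⟩, hP' (mem_subgroupOf.2 he), rfl⟩
  have hVx : ∀ i : ℤ, x ^ i ∈ V → x ^ i = 1 := by
    intro i hi
    obtain ⟨k, hk⟩ := hVp ⟨x ^ i, hi⟩
    have h1 : (x ^ i) ^ r ^ k = 1 := congrArg Subtype.val hk
    have h2 : (x ^ i) ^ p = 1 := by
      rw [← zpow_natCast, ← zpow_mul, mul_comm, zpow_mul, zpow_natCast, ← h.ox, pow_orderOf_eq_one, one_zpow]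
    have h3 : orderOf (x ^ i) ∣ Nat.gcd (r ^ k) p := Nat.dvd_gcd (orderOf_dvd_of_pow_eq_one h1) (orderOf_dvd_of_pow_eq_one h2)
    have h4 : Nat.gcd (r ^ k) p = 1 := Nat.Coprime.pow_left k ((Nat.coprime_primes hr hp.out).2 hrp)
    rw [h4, Nat.dvd_one, orderOf_eq_one_iff] at h3
    exact h3
  refine ⟨V, hVn, hVp, ?_, hVN, ?_, ?_⟩
  · intro h1
    rw [h1, le_bot_iff] at hEV
    exact hne hEV
  · intro n hn
    rw [mem_centralizer_iff]
    intro v hv
    obtain ⟨i, hi⟩ := h.comm hp2 hn (hVN hv)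
    have h1 : x ^ i = v⁻¹ * (n * v * n⁻¹) := by rw [hi]; group
    have h2 : x ^ i = 1 := hVx i (by
      rw [h1]
      exact V.mul_mem (V.inv_mem hv) (hVn.conj_mem v hv n))
    rw [h2, mul_one] at hi
    exact (mul_inv_eq_iff_eq_mul.1 hi).symm
  · intro v hv
    obtain ⟨i, hi⟩ := h.inv hp2 (hVN hv)
    have h1 : x ^ i = v * (z * v * z⁻¹) := by rw [hi]; group
    have h2 : x ^ i = 1 := hVx i (by
      rw [h1]
      exact V.mul_mem hv (hVn.conj_mem v hv z))
    rw [h2, mul_one] at hi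
    exact hi

/-- if `C_D(V)` is not solvable it contains the `p`-subgroups -/
theorem le_cent (h : Rad p z x N f) (hp2 : p ≠ 2) {V : Subgroup D} (hV : V.Normal)
    (hNV : N ≤ centralizer (V : Set D)) (hz : ∀ v ∈ V, z * v * z⁻¹ = v⁻¹)
    (hs : ¬ Group.IsSolvable ↥(centralizer (V : Set D))) {S : Subgroup D} (hS : IsPGroup p ↥S) :
    S ≤ centralizer (V : Set D) := by
  have hCn : (centralizer (V : Set D)).Normal := inferInstance
  have hcov := (h.solvable_or_cover hp2 (centralizer (V : Set D))).resolve_left hs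
  rw [sup_eq_left.2 hNV] at hcov
  intro s hsS
  obtain ⟨n, hn, c0, hc0, he⟩ := h.sup s
  obtain ⟨c, hc, hcf⟩ := hcov (f ⟨c0, mem_centralizer_singleton_iff.2 hc0⟩)
  have h1 : f (c⁻¹ * ⟨c0, mem_centralizer_singleton_iff.2 hc0⟩) = 1 := by
    rw [map_mul, map_inv, hcf, inv_mul_cancel]
  have hx : ∀ i : ℤ, x ^ i ∈ centralizer (V : Set D) := fun i => hNV (N.zpow_mem h.xN i)
  obtain ⟨i, hi⟩ := h.ker _ h1
  have hi' : (c : D)⁻¹ * c0 = x ^ i ∨ (c : D)⁻¹ * c0 = x ^ i * z := hi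
  rcases hi' with hi | hi
  · have h2 : s = n * (c * x ^ i) := by rw [he, ← hi]; group
    rw [h2]
    exact mul_mem (hNV hn) (mul_mem hc (hx i))
  · -- `s` inverts `V`
    have h2 : s = (n * (c * x ^ i)) * z := by rw [he, mul_assoc, mul_assoc, ← hi]; group
    have h3 : n * (c * x ^ i) ∈ centralizer (V : Set D) := mul_mem (hNV hn) (mul_mem hc (hx i))
    have h4 : s ^ 2 ∈ centralizer (V : Set D) := by
      rw [mem_centralizer_iff]
      intro v hv
      have h5 : ∀ v ∈ V, s * v * s⁻¹ = v⁻¹ := by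
        intro v hv
        have h6 := mem_centralizer_iff.1 h3 (v⁻¹) (V.inv_mem hv)
        calc s * v * s⁻¹ = (n * (c * x ^ i)) * (z * v * z⁻¹) * (n * (c * x ^ i))⁻¹ := by rw [h2]; group
          _ = (n * (c * x ^ i)) * v⁻¹ * (n * (c * x ^ i))⁻¹ := by rw [hz v hv]
          _ = v⁻¹ := by rw [← h6]; group
      have h7 : s ^ 2 * v * (s ^ 2)⁻¹ = v := by
        calc s ^ 2 * v * (s ^ 2)⁻¹ = s * (s * v * s⁻¹) * s⁻¹ := by rw [pow_two]; group
          _ = v := by rw [h5 v hv, h5 _ (V.inv_mem hv), inv_inv]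
      exact (mul_inv_eq_iff_eq_mul.1 h7).symm
    obtain ⟨k, hk⟩ := hS ⟨s, hsS⟩
    have hk' : s ^ p ^ k = 1 := congrArg Subtype.val hk
    obtain ⟨m, hm⟩ := (hp.out.odd_of_ne_two hp2).pow (n := k)
    rw [hm] at hk'
    have h8 : s = ((s ^ 2) ^ m)⁻¹ := by
      rw [eq_inv_iff_mul_eq_one, ← pow_mul, ← pow_succ']
      exact hk'
    rw [h8]
    exact inv_mem (pow_mem h4 m)

/-- if `z` is a square then `C_D(V)` is solvable -/
theorem no_V (h : Rad p z x N f) (hp2 : p ≠ 2) {k : ↥(centralizer ({z} : Set D))} (hk : (k : D) * k = z) {r : ℕ}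
    (hr : r.Prime) (hr2 : r ≠ 2) {V : Subgroup D} (hV : V.Normal) (hVr : IsPGroup r ↥V)
    (hNV : N ≤ centralizer (V : Set D)) (hz : ∀ v ∈ V, z * v * z⁻¹ = v⁻¹)
    (hs : ¬ Group.IsSolvable ↥(centralizer (V : Set D))) : V = ⊥ := by
  obtain ⟨c, hc, n, hn, he⟩ := h.z_mem_sup hp2 hk (centralizer (V : Set D)) hs
  have hzC : z ∈ centralizer (V : Set D) := by rw [he]; exact mul_mem hc (hNV hn)
  rw [eq_bot_iff]
  intro v hv
  rw [mem_bot]
  have h1 := hz v hv
  rw [← mem_centralizer_iff.1 hzC v hv, mul_inv_cancel_right] at h1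
  have h2 : v ^ 2 = 1 := by
    rw [pow_two]
    nth_rewrite 2 [h1]
    exact mul_inv_cancel v
  obtain ⟨j, hj⟩ := hVr ⟨v, hv⟩
  have hj' : v ^ r ^ j = 1 := congrArg Subtype.val hj
  obtain ⟨m, hm⟩ := (hr.odd_of_ne_two hr2).pow (n := j)
  rw [hm, pow_succ, pow_mul, h2, one_pow, one_mul] at hj'
  exact hj'

/-- the criterion for `C_D(V)` not solvable -/
theorem not_solvable (h : Rad p z x N f) (hAc : ¬ Group.IsSolvable A) {r b : ℕ} (hr : r.Prime)
    (hb : ¬ r ^ (b + 1) ∣ Nat.card D) {s e : ℕ} (hs : s.Prime) (hsr : s ≠ r) (he : s ^ e ∣ Nat.card A) (w : ℕ → ℕ)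
    (hw : ∀ k, 1 ≤ k → k ≤ b → ¬ s ^ (w k + 1) ∣ r ^ k - 1) (hW : ∑ i ∈ Finset.range b, w (i + 1) < e)
    {V : Subgroup D} (hV : V.Normal) (hVr : IsPGroup r ↥V) : ¬ Group.IsSolvable ↥(centralizer (V : Set D)) := by
  have hsF : Fact s.Prime := ⟨hs⟩
  have hrF : Fact r.Prime := ⟨hr⟩
  intro hsol
  obtain ⟨ψ, hψ, hψf, hψN, hψk⟩ := exists_map h hAc
  have hfinA : Finite A := Finite.of_surjective ψ hψ
  -- `C_D(V)` maps to 1
  have hCn : (centralizer (V : Set D)).Normal := inferInstance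
  have h1 : (centralizer (V : Set D)).map ψ = ⊥ := by
    rcases (hCn.map ψ hψ).eq_bot_or_eq_top with h2 | h2
    · exact h2
    · exfalso
      apply hAc
      have h3 : Group.IsSolvable ↥((centralizer (V : Set D)).map ψ) :=
        Group.isSolvable_of_surjective (ψ.subgroupMap_surjective _)
      rw [h2] at h3
      exact Group.isSolvable_of_surjective (f := (Subgroup.topEquiv (G := A)).toMonoidHom) (Subgroup.topEquiv (G := A)).surjective
  obtain ⟨T⟩ : Nonempty (Sylow s D) := inferInstance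
  obtain ⟨k0, hk0, hc0⟩ := card_pgroup hb hVr
  have hd := card_dvd_kernel hsr hb w hw hVr b (T : Subgroup D) T.2 (le_normalizer_of_conj fun g _ v hv => hV.conj_mem v hv g)
    (fun k j hk _ => by
      have : k = k0 := Nat.pow_right_injective hr.two_le (by show r ^ k = r ^ k0; rw [← hk, ← hc0])
      omega)
  -- the image of `T`
  have h2 : s ^ e ∣ Nat.card ↥((T : Subgroup D).map ψ) := by
    have h3 : ¬ s ∣ ((T : Subgroup D).map ψ).index := fun h4 => T.not_dvd_index (h4.trans (index_map_dvd _ hψ))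
    exact card_sylow he h3
  let g : ↥(T : Subgroup D) →* A := ψ.comp (T : Subgroup D).subtype
  have h3 : Nat.card ↥(T : Subgroup D) = Nat.card ↥g.ker * Nat.card ↥((T : Subgroup D).map ψ) := by
    have h3' : g.range = (T : Subgroup D).map ψ := by
      ext a
      constructor
      · rintro ⟨t, rfl⟩
        exact ⟨t, t.2, rfl⟩
      · rintro ⟨t, ht, rfl⟩
        exact ⟨⟨t, ht⟩, rfl⟩
    rw [← g.ker.card_mul_index, Subgroup.index_ker, h3']
  have h4 : Nat.card ↥((T : Subgroup D) ⊓ centralizer (V : Set D)) ∣ Nat.card ↥g.ker := by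
    rw [← card_map_of_injective (K := g.ker) (T : Subgroup D).subtype_injective]
    apply card_dvd_of_le
    rintro t ⟨ht, htC⟩
    refine ⟨⟨t, ht⟩, ?_, rfl⟩
    have h5 : ψ t ∈ (centralizer (V : Set D)).map ψ := mem_map_of_mem ψ htC
    rw [h1, mem_bot] at h5
    exact h5
  have h5 : Nat.card ↥g.ker * s ^ e ∣ Nat.card ↥g.ker * s ^ (∑ i ∈ Finset.range b, w (i + 1)) := by
    refine (Nat.mul_dvd_mul_left _ h2).trans ?_
    rw [← h3]
    exact hd.trans (Nat.mul_dvd_mul_right h4 _)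
  have h6 := Nat.dvd_of_mul_dvd_mul_left Nat.card_pos h5
  have h7 := (Nat.pow_dvd_pow_iff_le_right hs.one_lt).1 h6
  omega

end Cfsg.Agent.H573.Hall.RadInv
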